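import Cfsg.Agent.Lib.Chev.All
import Cfsg.Agent.Lib.Chev.Reflection
import Cfsg.Agent.Lib.Chev.Poincare
import Cfsg.Agent.Lib.Chev.Torus

/-!
The Weyl group on coefficient vectors of roots, characters of the diagonal subgroup, and the
triviality of stabilisers of regular points modulo a prime.
-/

set_option autoImplicit false

namespace CfsgLib.Known.ChevSinger

open Cfsg.Lie CfsgLib.Chev Matrix

variable {D : ChevalleyDatum} {co : ℕ → ℕ → ℤ}

/-- The coefficient vector of a root. -/
def coV (D : ChevalleyDatum) (co : ℕ → ℕ → ℤ) (s : ℕ) : Fin D.rank → ℤ := fun j => co s j.val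

/-- A fundamental reflection on coefficient vectors. -/
def reflM (D : ChevalleyDatum) (i : Fin D.rank) : Matrix (Fin D.rank) (Fin D.rank) ℤ :=
  Matrix.of fun j m => (if j = m then 1 else 0) - if i = j then D.cartan i.val (D.simple m.val) else 0

/-- The matrix of a word. -/
def wM (D : ChevalleyDatum) (l : List (Fin D.rank)) : Matrix (Fin D.rank) (Fin D.rank) ℤ :=
  (l.map (reflM D)).prod

theorem reflM_mulVec (i : Fin D.rank) (v : Fin D.rank → ℤ) (j : Fin D.rank) :
    (reflM D i *ᵥ v) j = v j - if i = j then ∑ m, D.cartan i.val (D.simple m.val) * v m else 0 := by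
  simp only [reflM, Matrix.mulVec, dotProduct, Matrix.of_apply, sub_mul, Finset.sum_sub_distrib,
    ite_mul, one_mul, zero_mul, Finset.sum_ite_eq, Finset.mem_univ, if_true]
  split_ifs <;> simp

theorem coV_sW (hF : Facts D co) (l : List (Fin D.rank)) (s : Fin D.nroots) :
    coV D co (sW D l s).val = wM D l *ᵥ coV D co s.val := by
  induction l with
  | nil => simp [wM, sW_nil]
  | cons i l ih =>
    rw [sW_cons, Equiv.Perm.mul_apply, hF.sP_val, wM, List.map_cons, List.prod_cons,
      ← Matrix.mulVec_mulVec, ← wM, ← ih]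
    funext j
    rw [reflM_mulVec, coV, hF.co_refl_expand i.isLt (sW D l s).isLt j.isLt]
    simp only [coV, Finset.sum_range, Fin.val_inj, mul_comm (co (sW D l s).val _)]

theorem coV_simple (hF : Facts D co) (i : Fin D.rank) :
    coV D co (D.simple i.val) = Pi.single i 1 := by
  funext j
  rw [coV, hF.co_simple i.val i.isLt j.val j.isLt, Pi.single_apply]
  simp [Fin.val_inj, eq_comm]

theorem coV_inj (hF : Facts D co) {r s : Fin D.nroots} (h : coV D co r.val = coV D co s.val) :
    r = s :=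
  Fin.ext (hF.root_ext r.isLt s.isLt fun j hj => congrFun h ⟨j, hj⟩)

theorem coV_neg (hF : Facts D co) {s : ℕ} (hs : s < D.nroots) :
    coV D co (D.neg s) = -coV D co s := by
  funext j
  exact hF.co_neg s hs j.val j.isLt

theorem coV_ne_zero (hF : Facts D co) {s : ℕ} (hs : s < D.nroots) : coV D co s ≠ 0 := fun h =>
  hF.neg_ne hs (hF.root_ext (hF.neg_lt hs) hs fun j hj => by
    have h1 := congrFun (coV_neg hF hs) ⟨j, hj⟩
    rw [h, neg_zero] at h1
    have h2 := congrFun h ⟨j, hj⟩
    exact h1.trans h2.symm)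

theorem ext_of_roots (hF : Facts D co) {A B : Matrix (Fin D.rank) (Fin D.rank) ℤ}
    (h : ∀ s : Fin D.nroots, A *ᵥ coV D co s.val = B *ᵥ coV D co s.val) : A = B := by
  ext j m
  have h1 := congrFun (h (hF.simpleFin m)) j
  rw [show (hF.simpleFin m).val = D.simple m.val from rfl, coV_simple hF] at h1
  simpa [Matrix.mulVec_single_one] using h1

theorem wM_eq_one (hF : Facts D co) {l : List (Fin D.rank)} (h : sW D l = 1) : wM D l = 1 :=
  ext_of_roots hF fun s => by rw [← coV_sW hF, h, Matrix.one_mulVec, Equiv.Perm.one_apply]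

theorem sW_eq_one (hF : Facts D co) {l : List (Fin D.rank)} (h : wM D l = 1) : sW D l = 1 :=
  Equiv.ext fun s => coV_inj hF (by rw [coV_sW hF, h, Matrix.one_mulVec, Equiv.Perm.one_apply])

theorem wM_append (a b : List (Fin D.rank)) : wM D (a ++ b) = wM D a * wM D b := by
  simp [wM]

theorem exists_pow_eq_one (hF : Facts D co) (l : List (Fin D.rank)) :
    ∃ m, 0 < m ∧ wM D l ^ m = 1 := by
  refine ⟨orderOf (sW D l), orderOf_pos _, ?_⟩
  have key : ∀ k, wM D (List.replicate k l).flatten = wM D l ^ k ∧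
      sW D (List.replicate k l).flatten = sW D l ^ k := by
    intro k
    induction k with
    | zero => simp [wM, sW_nil]
    | succ k ih =>
      rw [List.replicate_succ, List.flatten_cons, wM_append, sW_append, ih.1, ih.2, ← pow_succ',
        ← pow_succ']
      exact ⟨rfl, rfl⟩
  rw [← (key _).1]
  exact wM_eq_one hF ((key _).2.trans (pow_orderOf_eq_one _))

theorem wM_reverse_mul (hF : Facts D co) (l : List (Fin D.rank)) :
    wM D l.reverse * wM D l = 1 := by
  rw [← wM_append]
  exact wM_eq_one hF (by rw [sW_append, hF.sW_reverse, inv_mul_cancel])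

theorem wM_form {B : Matrix (Fin D.rank) (Fin D.rank) ℤ}
    (hB : ∀ i, (reflM D i)ᵀ * B * reflM D i = B) (l : List (Fin D.rank)) :
    (wM D l)ᵀ * B * wM D l = B := by
  induction l with
  | nil => simp [wM]
  | cons i l ih =>
    rw [wM, List.map_cons, List.prod_cons, Matrix.transpose_mul, ← wM]
    calc (wM D l)ᵀ * (reflM D i)ᵀ * B * (reflM D i * wM D l)
        = (wM D l)ᵀ * ((reflM D i)ᵀ * B * reflM D i) * wM D l := by simp only [mul_assoc]
      _ = B := by rw [hB, ih]

/-! ### Characters -/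

variable {K : Type*} [Field K]

/-- The character of a torus element. -/
def chiT (D : ChevalleyDatum) (c : ℕ → Kˣ) (s : ℕ) : Kˣ :=
  ∏ i ∈ Finset.range D.rank, c i ^ D.cartan i s

theorem hT_eq_dU (c : ℕ → Kˣ) : hT D c = dU D (chiT D c) := rfl

theorem sum_zsmul_const {ι A : Type*} [AddCommGroup A] (S : Finset ι) (f : ι → ℤ) (x : A) :
    ∑ i ∈ S, f i • x = (∑ i ∈ S, f i) • x := by
  classical
  induction S using Finset.induction with
  | empty => simp
  | insert a S h ih => rw [Finset.sum_insert h, Finset.sum_insert h, ih, add_zsmul]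

/-- The character on coefficient vectors, written additively. -/
def torHom (D : ChevalleyDatum) (c : ℕ → Kˣ) : (Fin D.rank → ℤ) →+ Additive Kˣ where
  toFun v := ∑ q, v q • Additive.ofMul (chiT D c (D.simple q.val))
  map_zero' := by simp
  map_add' v w := by simp only [Pi.add_apply, add_zsmul, Finset.sum_add_distrib]

theorem torHom_coV (hF : Facts D co) (c : ℕ → Kˣ) {s : ℕ} (hs : s < D.nroots) :
    torHom D c (coV D co s) = Additive.ofMul (chiT D c s) := by
  show ∑ q : Fin D.rank, co s q.val • Additive.ofMul (chiT D c (D.simple q.val)) = _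
  rw [Fin.sum_univ_eq_sum_range (fun q => co s q • Additive.ofMul (chiT D c (D.simple q)))]
  simp only [chiT, ofMul_prod, ofMul_zpow, ← Finset.sum_zsmul, ← mul_zsmul']
  rw [Finset.sum_comm]
  refine Finset.sum_congr rfl fun i hi => ?_
  rw [sum_zsmul_const, hF.cartan_eq_sum (Finset.mem_range.1 hi) hs]
  simp only [mul_comm]

theorem hom_ext_roots (hF : Facts D co) {M : Type*} [AddCommGroup M]
    {L L' : (Fin D.rank → ℤ) →+ M}
    (h : ∀ s : Fin D.nroots, L (coV D co s.val) = L' (coV D co s.val)) : L = L' := by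
  refine AddMonoidHom.ext fun v => ?_
  rw [pi_eq_sum_univ v, map_sum, map_sum]
  refine Finset.sum_congr rfl fun q _ => ?_
  have h1 := h (hF.simpleFin q)
  rw [show (hF.simpleFin q).val = D.simple q.val from rfl, coV_simple hF] at h1
  have e : (fun j => if q = j then (1 : ℤ) else 0) = Pi.single q 1 := by
    funext j; simp [Pi.single_apply, eq_comm]
  rw [e, map_zsmul, map_zsmul, h1]

theorem exists_torus {Ci : Matrix (Fin D.rank) (Fin D.rank) ℤ} (hCi : cartanMat D * Ci = 1)
    (L : (Fin D.rank → ℤ) →+ Additive Kˣ) : ∃ c : ℕ → Kˣ, torHom D c = L := by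
  let E : Fin D.rank → Additive Kˣ := fun q => L (Pi.single q 1)
  let c : ℕ → Kˣ := fun i =>
    if h : i < D.rank then Additive.toMul (∑ m, Ci ⟨i, h⟩ m • E m) else 1
  refine ⟨c, AddMonoidHom.ext fun v => ?_⟩
  have hE : ∀ q : Fin D.rank, Additive.ofMul (chiT D c (D.simple q.val)) = E q := by
    intro q
    simp only [chiT, ofMul_prod, ofMul_zpow]
    rw [← Fin.sum_univ_eq_sum_range (fun i => D.cartan i (D.simple q.val) • Additive.ofMul (c i))]
    simp only [c, Fin.is_lt, dif_pos, ofMul_toMul, Fin.eta, ← Finset.sum_zsmul, ← mul_zsmul']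
    rw [Finset.sum_comm]
    have key : ∀ m, ∑ i : Fin D.rank, (Ci i m * D.cartan i.val (D.simple q.val)) • E m =
        (if q = m then (1 : ℤ) else 0) • E m := fun m => by
      rw [sum_zsmul_const]
      congr 1
      simp only [mul_comm (Ci _ _)]
      have h1 := congrFun (congrFun hCi q) m
      rw [Matrix.one_apply] at h1
      exact h1
    rw [Finset.sum_congr rfl fun m _ => key m]
    simp
  show ∑ q, v q • Additive.ofMul (chiT D c (D.simple q.val)) = L v
  conv_rhs => rw [pi_eq_sum_univ v, map_sum]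
  refine Finset.sum_congr rfl fun q _ => ?_
  have e : (fun j => if q = j then (1 : ℤ) else 0) = Pi.single q 1 := by
    funext j; simp [Pi.single_apply, eq_comm]
  rw [hE, map_zsmul, e]

/-! ### Regular points modulo `r` -/

/-- Data used to move a point into the fundamental alcove. -/
structure AlcoveData (D : ChevalleyDatum) (co : ℕ → ℕ → ℤ)
    (B Bi : Matrix (Fin D.rank) (Fin D.rank) ℤ) (cc : ℤ) (θ : ℕ) : Prop where
  symm : Biᵀ = Bi
  nonneg : ∀ k, 0 ≤ k ⬝ᵥ Bi *ᵥ k
  pos_norm : ∀ s : Fin D.nroots, 0 < coV D co s.val ⬝ᵥ B *ᵥ coV D co s.val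
  coroot : ∀ s : Fin D.nroots, (coV D co s.val ⬝ᵥ B *ᵥ coV D co s.val) •
      (Bi *ᵥ fun j => prE D s.val (D.simple j.val)) = (2 * cc) • coV D co s.val
  prE_self : ∀ s : Fin D.nroots, (fun j : Fin D.rank => prE D s.val (D.simple j.val)) ⬝ᵥ
      coV D co s.val = 2
  cc_pos : 0 < cc
  theta_lt : θ < D.nroots
  theta_co : ∀ j < D.rank, 2 ≤ co θ j

/-- The sum of the positive coefficient vectors. -/
def rhoV (D : ChevalleyDatum) (co : ℕ → ℕ → ℤ) : Fin D.rank → ℤ :=
  ∑ s ∈ Finset.univ.filter (fun s : Fin D.nroots => D.nroots / 2 ≤ s.val), coV D co s.val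

theorem reflM_rho (hF : Facts D co) (i : Fin D.rank) :
    reflM D i *ᵥ rhoV D co = rhoV D co - (2 : ℤ) • coV D co (D.simple i.val) := by
  classical
  set P := Finset.univ.filter (fun s : Fin D.nroots => D.nroots / 2 ≤ s.val) with hP
  have hmem : hF.simpleFin i ∈ P := by
    simp only [hP, Finset.mem_filter, Finset.mem_univ, true_and]
    exact (hF.simple_lt i.val i.isLt).1
  have hs : ∀ s : Fin D.nroots, coV D co (sP D i s).val = reflM D i *ᵥ coV D co s.val := fun s => by
    have h := coV_sW hF [i] s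
    simpa [sW_cons, sW_nil, wM] using h
  have himg : ∑ s ∈ P.erase (hF.simpleFin i), reflM D i *ᵥ coV D co s.val =
      ∑ s ∈ P.erase (hF.simpleFin i), coV D co s.val := by
    refine Finset.sum_nbij' (fun s => sP D i s) (fun s => sP D i s) ?_ ?_ ?_ ?_ ?_
    rotate_left 2
    · intro s _; rw [← Equiv.Perm.mul_apply, hF.sP_sq, Equiv.Perm.one_apply]
    · intro s _; rw [← Equiv.Perm.mul_apply, hF.sP_sq, Equiv.Perm.one_apply]
    · intro s _; rw [hs]
    all_goals
      intro s hsP
      simp only [Finset.mem_coe, Finset.mem_erase, ne_eq, hP, Finset.mem_filter, Finset.mem_univ,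
        true_and] at hsP ⊢
      have h := hF.sP_pos i hsP.2 fun e => hsP.1 (Fin.ext e)
      exact ⟨fun e => h.2 (congrArg Fin.val e), h.1⟩
  have hrefl : reflM D i *ᵥ coV D co (D.simple i.val) = -coV D co (D.simple i.val) := by
    rw [← coV_neg hF (hF.simple_lt' i.isLt)]
    have h := hs (hF.simpleFin i)
    rw [hF.sP_simple] at h
    exact h.symm
  rw [rhoV, Matrix.mulVec_sum, ← Finset.add_sum_erase _ _ hmem, ← Finset.add_sum_erase _ _ hmem, himg]
  show reflM D i *ᵥ coV D co (D.simple i.val) + _ = _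
  rw [hrefl, two_smul]
  show -coV D co (D.simple i.val) + _ =
    coV D co (D.simple i.val) + _ - (coV D co (D.simple i.val) + coV D co (D.simple i.val))
  abel

/-- The stabiliser of a regular point modulo `r` is trivial. -/
theorem stab_trivial (hF : Facts D co) {B Bi : Matrix (Fin D.rank) (Fin D.rank) ℤ} {cc : ℤ}
    {θ : ℕ} (hA : AlcoveData D co B Bi cc θ) {r : ℕ} (hr : 0 < r) (k₀ : Fin D.rank → ℤ)
    (hreg : ∀ s : Fin D.nroots, ¬ (r : ℤ) ∣ k₀ ⬝ᵥ coV D co s.val) (l : List (Fin D.rank))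
    (hfix : ∀ s : Fin D.nroots,
      (r : ℤ) ∣ k₀ ⬝ᵥ coV D co (sW D l s).val - k₀ ⬝ᵥ coV D co s.val) : sW D l = 1 := by
  classical
  let S : Set (Fin D.rank → ℤ) := {k | ∀ v, (r : ℤ) ∣ k ⬝ᵥ v - k₀ ⬝ᵥ v}
  have hex : ∃ m : ℕ, ∃ k ∈ S, (k ⬝ᵥ Bi *ᵥ k).toNat = m := ⟨_, k₀, fun v => by simp, rfl⟩
  obtain ⟨k, hkS, hkm⟩ := Nat.find_spec hex
  have hkreg : ∀ s : Fin D.nroots, ¬ (r : ℤ) ∣ k ⬝ᵥ coV D co s.val := fun s h =>
    hreg s (by simpa using dvd_sub h (hkS (coV D co s.val)))
  have hle : ∀ s : Fin D.nroots, k ⬝ᵥ coV D co s.val < r := by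
    intro s
    by_contra hge
    have hne : k ⬝ᵥ coV D co s.val ≠ r := fun e => hkreg s (e ▸ dvd_refl _)
    have hgt : (r : ℤ) < k ⬝ᵥ coV D co s.val := lt_of_le_of_ne (not_lt.1 hge) (Ne.symm hne)
    set u : Fin D.rank → ℤ := fun j => prE D s.val (D.simple j.val) with hu
    set k' := k - (r : ℤ) • u with hk'
    have hk'S : k' ∈ S := fun v => by
      have e : k' ⬝ᵥ v - k₀ ⬝ᵥ v = (k ⬝ᵥ v - k₀ ⬝ᵥ v) - (r : ℤ) * (u ⬝ᵥ v) := by
        rw [hk', sub_dotProduct, smul_dotProduct, smul_eq_mul]; ring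
      rw [e]
      exact dvd_sub (hkS v) (dvd_mul_right _ _)
    have hbB := hA.pos_norm s
    set b := coV D co s.val ⬝ᵥ B *ᵥ coV D co s.val with hb
    have hcor := hA.coroot s
    rw [← hb, ← hu] at hcor
    have e1 : b * (k ⬝ᵥ Bi *ᵥ u) = 2 * cc * (k ⬝ᵥ coV D co s.val) := by
      have h := congrArg (fun w => k ⬝ᵥ w) hcor
      simp only [dotProduct_smul, smul_eq_mul] at h
      exact h
    have e2 : b * (u ⬝ᵥ Bi *ᵥ u) = 2 * cc * 2 := by
      have h := congrArg (fun w => u ⬝ᵥ w) hcor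
      have h2 := hA.prE_self s
      rw [← hu] at h2
      simp only [dotProduct_smul, smul_eq_mul, h2] at h
      exact h
    have e3 : u ⬝ᵥ Bi *ᵥ k = k ⬝ᵥ Bi *ᵥ u := by
      rw [Matrix.dotProduct_mulVec, dotProduct_comm, ← Matrix.mulVec_transpose, hA.symm]
    have hQ : k' ⬝ᵥ Bi *ᵥ k' = k ⬝ᵥ Bi *ᵥ k - 2 * r * (k ⬝ᵥ Bi *ᵥ u) + (r : ℤ) ^ 2 * (u ⬝ᵥ Bi *ᵥ u) := by
      rw [hk', Matrix.mulVec_sub, Matrix.mulVec_smul, sub_dotProduct, dotProduct_sub, dotProduct_sub,
        smul_dotProduct, smul_dotProduct, dotProduct_smul, dotProduct_smul, e3]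
      simp only [smul_eq_mul]
      ring
    have hlt : k' ⬝ᵥ Bi *ᵥ k' < k ⬝ᵥ Bi *ᵥ k := by
      have hpos : 0 < (r : ℤ) * cc * (k ⬝ᵥ coV D co s.val - r) :=
        mul_pos (mul_pos (by exact_mod_cast hr) hA.cc_pos) (by linarith)
      have hb2 : b * (k' ⬝ᵥ Bi *ᵥ k' - k ⬝ᵥ Bi *ᵥ k) =
          -(4 * ((r : ℤ) * cc * (k ⬝ᵥ coV D co s.val - r))) := by
        rw [hQ]
        linear_combination (-2 * (r : ℤ)) * e1 + (r : ℤ) ^ 2 * e2
      nlinarith
    refine absurd (Nat.find_min' hex ⟨k', hk'S, rfl⟩) (not_le.2 ?_)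
    rw [← hkm]
    exact (Int.toNat_lt_toNat (lt_of_le_of_lt (hA.nonneg k') hlt)).2 hlt
  -- move into the fundamental alcove
  let Ws : Set (Equiv.Perm (Fin D.nroots)) := {σ | ∃ m, sW D m = σ}
  let F0 : Equiv.Perm (Fin D.nroots) → ℤ := fun σ =>
    ∑ s ∈ Finset.univ.filter (fun s : Fin D.nroots => D.nroots / 2 ≤ s.val),
      k ⬝ᵥ coV D co (σ s).val
  obtain ⟨σ0, ⟨u, rfl⟩, hmax⟩ := Set.exists_max_image Ws F0 (Set.toFinite _) ⟨1, [], sW_nil⟩
  have hF0 : ∀ m : List (Fin D.rank), F0 (sW D m) = k ⬝ᵥ wM D m *ᵥ rhoV D co := fun m => by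
    simp only [F0, rhoV, Matrix.mulVec_sum, dotProduct_sum, coV_sW hF]
  set K' : Fin D.nroots → ℤ := fun s => k ⬝ᵥ coV D co (sW D u s).val with hK'
  have hsimp : ∀ i : Fin D.rank, 0 < K' (hF.simpleFin i) := by
    intro i
    by_contra hneg
    have hne : K' (hF.simpleFin i) ≠ 0 := fun e => hkreg _ (by rw [hK'] at e; simp only at e; rw [e]; exact dvd_zero _)
    have hlt : K' (hF.simpleFin i) < 0 := lt_of_le_of_ne (not_lt.1 hneg) hne
    have h := hmax (sW D (u ++ [i])) ⟨_, rfl⟩
    rw [hF0, hF0, wM_append, ← Matrix.mulVec_mulVec, show wM D [i] = reflM D i by simp [wM],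
      reflM_rho hF, Matrix.mulVec_sub, Matrix.mulVec_smul, dotProduct_sub, dotProduct_smul,
      smul_eq_mul] at h
    rw [hK'] at hlt
    simp only [coV_sW hF] at hlt
    rw [show (hF.simpleFin i).val = D.simple i.val from rfl] at hlt
    linarith
  set l' := u.reverse ++ (l ++ u) with hl'
  have hexp : ∀ s : Fin D.nroots, K' s = ∑ j : Fin D.rank, co s.val j.val * K' (hF.simpleFin j) := by
    intro s
    simp only [hK', coV_sW hF, show ∀ j : Fin D.rank, (hF.simpleFin j).val = D.simple j.val from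
      fun _ => rfl, coV_simple hF, Matrix.mulVec_single_one]
    simp only [Matrix.mulVec, dotProduct, Finset.mul_sum, Matrix.col_apply, coV]
    rw [Finset.sum_comm]
    refine Finset.sum_congr rfl fun j _ => Finset.sum_congr rfl fun m _ => ?_
    ring
  have hpos : ∀ s : Fin D.nroots, D.nroots / 2 ≤ s.val → 0 < K' s := by
    intro s hs
    rw [hexp s]
    obtain ⟨j, hj, hjne⟩ : ∃ j < D.rank, co s.val j ≠ 0 := by
      by_contra h
      push_neg at h
      exact coV_ne_zero hF s.isLt (funext fun j => h j.val j.isLt)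
    refine Finset.sum_pos' (fun j _ => mul_nonneg (hF.co_nonneg _ s.isLt hs _ j.isLt) (hsimp j).le)
      ⟨⟨j, hj⟩, Finset.mem_univ _, mul_pos (lt_of_le_of_ne (hF.co_nonneg _ s.isLt hs _ hj)
        (Ne.symm hjne)) (hsimp _)⟩
  have hnegK : ∀ s : Fin D.nroots, K' (hF.negFin s) = -K' s := fun s => by
    simp only [hK', hF.sW_neg]
    rw [show (hF.negFin (sW D u s)).val = D.neg (sW D u s).val from rfl,
      coV_neg hF (sW D u s).isLt, dotProduct_neg]
  have hfix' : ∀ s : Fin D.nroots, (r : ℤ) ∣ K' (sW D l' s) - K' s := by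
    intro s
    have e : sW D u (sW D l' s) = sW D l (sW D u s) := by
      rw [hl', sW_append, sW_append, hF.sW_reverse]
      simp
    simp only [hK', e]
    have h1 := hkS (coV D co (sW D l (sW D u s)).val)
    have h2 := hkS (coV D co (sW D u s).val)
    have h3 := hfix (sW D u s)
    have e2 : ∀ a b c d : ℤ, a - b = (a - c) - (b - d) + (c - d) := fun a b c d => by ring
    rw [e2 _ _ (k₀ ⬝ᵥ coV D co (sW D l (sW D u s)).val) (k₀ ⬝ᵥ coV D co (sW D u s).val)]
    exact dvd_add (dvd_sub h1 h2) h3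
  set t : Fin D.nroots := ⟨θ, hA.theta_lt⟩ with ht
  let eps : Fin D.nroots → ℤ := fun s => if D.nroots / 2 ≤ (sW D l' s).val then 0 else 1
  have hstep : ∀ s : Fin D.nroots, D.nroots / 2 ≤ s.val → K' (sW D l' s) = K' s - r * eps s := by
    intro s hs
    obtain ⟨z, hz⟩ := hfix' s
    have h1 := hpos s hs
    have h2 : K' s < r := hle _
    have h3 : K' (sW D l' s) < r := hle _
    have h4 : -(r : ℤ) < K' (sW D l' s) := by
      have h5 : K' (hF.negFin (sW D l' s)) < r := hle _
      rw [hnegK] at h5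
      linarith
    simp only [eps]
    split_ifs with h
    · have h6 := hpos _ h
      have hz0 : z = 0 := by nlinarith
      rw [hz0] at hz
      linarith
    · have h6 := hpos (hF.negFin (sW D l' s)) ((hF.negFin_pos _).2 (not_le.1 h))
      rw [hnegK] at h6
      have hz1 : z = -1 := by nlinarith
      rw [hz1] at hz
      linarith
  have htpos : D.nroots / 2 ≤ t.val :=
    hF.pos_of_co_nonneg hA.theta_lt fun j hj => by linarith [hA.theta_co j hj]
  have hlin : ∀ s : Fin D.nroots,
      K' (sW D l' s) = ∑ j : Fin D.rank, co s.val j.val * K' (sW D l' (hF.simpleFin j)) := by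
    intro s
    simp only [hK', coV_sW hF, show ∀ j : Fin D.rank, (hF.simpleFin j).val = D.simple j.val from
      fun _ => rfl, coV_simple hF, Matrix.mulVec_mulVec, Matrix.mulVec_single_one]
    simp only [Matrix.mulVec, dotProduct, Finset.mul_sum, Matrix.col_apply, coV]
    rw [Finset.sum_comm]
    refine Finset.sum_congr rfl fun j _ => Finset.sum_congr rfl fun m _ => ?_
    simp only [Matrix.mul_apply, Finset.mul_sum, Finset.sum_mul]
    refine Finset.sum_congr rfl fun x _ => ?_
    ring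
  have hεsum : ∑ j : Fin D.rank, co θ j.val * eps (hF.simpleFin j) = eps t := by
    have h := hstep t htpos
    rw [hlin t, hexp t] at h
    simp only [fun j : Fin D.rank => hstep (hF.simpleFin j) (hF.simple_lt j.val j.isLt).1, mul_sub,
      Finset.sum_sub_distrib, ht] at h
    have e : ∑ x : Fin D.rank, co θ x.val * ((r : ℤ) * eps (hF.simpleFin x)) =
        r * ∑ x : Fin D.rank, co θ x.val * eps (hF.simpleFin x) := by
      rw [Finset.mul_sum]; exact Finset.sum_congr rfl fun x _ => by ring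
    rw [e] at h
    exact mul_left_cancel₀ (by exact_mod_cast hr.ne' : (r : ℤ) ≠ 0) (by linarith)
  have hall : ∀ j : Fin D.rank, eps (hF.simpleFin j) = 0 := by
    intro j
    have h1 : eps t ≤ 1 := by simp only [eps]; split_ifs <;> norm_num
    have h2 := Finset.single_le_sum (f := fun j : Fin D.rank => co θ j.val * eps (hF.simpleFin j))
      (fun j _ => mul_nonneg (by linarith [hA.theta_co j.val j.isLt])
        (by simp only [eps]; split_ifs <;> norm_num)) (Finset.mem_univ j)
    rw [hεsum] at h2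
    have h3 := hA.theta_co j.val j.isLt
    simp only [eps] at h2 ⊢
    split_ifs at h2 ⊢ <;> linarith
  have hl1 : sW D l' = 1 := hF.eq_one_of_pos l' fun s hs => by
    have e : K' (sW D l' s) = K' s := by
      rw [hlin s, hexp s]
      refine Finset.sum_congr rfl fun j _ => ?_
      rw [hstep (hF.simpleFin j) (hF.simple_lt j.val j.isLt).1, hall j, mul_zero, sub_zero]
    by_contra hneg
    have h6 := hpos (hF.negFin (sW D l' s)) ((hF.negFin_pos _).2 (not_le.1 hneg))
    rw [hnegK, e] at h6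
    linarith [hpos s hs]
  rw [hl', sW_append, sW_append, hF.sW_reverse, inv_mul_eq_one] at hl1
  exact mul_eq_right.1 hl1.symm

end CfsgLib.Known.ChevSinger
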