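import Cfsg.Agent.Lib.Chev.Orders
import Cfsg.Agent.Lib.Known.G2Singer.Regular
import Cfsg.Agent.Lib.Known.ChevSinger.Weyl

/-!
Intertwiners of diagonal elements, scalar extension, and elements of prime power order that are
conjugate into the diagonal subgroup.
-/

set_option autoImplicit false

namespace CfsgLib.Known.ChevSinger

open Cfsg.Lie CfsgLib.Chev

universe v

variable {D : ChevalleyDatum} {co : ℕ → ℕ → ℤ}

/-- Extension of scalars. -/
noncomputable abbrev extG (D : ChevalleyDatum) {F K : Type*} [Field F] [Field K] (ι : F →+* K) :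
    GL D.Idx F →* GL D.Idx K :=
  Units.map ι.mapMatrix.toMonoidHom

section

variable {F K : Type*} [Field F] [Field K] (ι : F →+* K)

theorem extG_injective : Function.Injective (extG D ι) := fun x y h => Units.ext
  (Matrix.map_injective ι.injective (congrArg (fun g : GL D.Idx K => (g : Matrix D.Idx D.Idx K)) h))

theorem extG_comp {L : Type*} [Field L] (σ : K →+* L) (x : GL D.Idx F) :
    extG D σ (extG D ι x) = extG D (σ.comp ι) x :=
  Units.ext (Matrix.map_map (M := (x : Matrix D.Idx D.Idx F)))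

theorem extG_xU (hF : Facts D co) {r : ℕ} (hr : r < D.nroots) (t : F) :
    extG D ι (xU D r t) = xU D r (ι t) := by
  refine Units.ext ?_
  show ((xU D r t : GL D.Idx F) : Matrix D.Idx D.Idx F).map ι = _
  rw [hF.xU_val' hr, hF.xU_val' hr, xR_map]

theorem extG_mem_group (hF : Facts D co) {x : GL D.Idx F} (hx : x ∈ D.group F) :
    extG D ι x ∈ D.group K := by
  rw [hF.group_eq] at hx ⊢
  refine (Subgroup.closure_le (K := (rootClosure D K fun _ => True).comap (extG D ι))).2 ?_ hx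
  rintro y ⟨r, t, hr, -, rfl⟩
  rw [SetLike.mem_coe, Subgroup.mem_comap, extG_xU ι hF hr]
  exact xU_mem_rootClosure hr trivial _

theorem chiT_map (c : ℕ → Fˣ) (s : ℕ) :
    chiT D (fun i => Units.map ι.toMonoidHom (c i)) s = Units.map ι.toMonoidHom (chiT D c s) := by
  simp only [chiT, map_prod, map_zpow]

theorem extG_hT (c : ℕ → Fˣ) :
    extG D ι (hT D c) = hT D (fun i => Units.map ι.toMonoidHom (c i)) := by
  rw [hT_eq_dU, hT_eq_dU, dU_congr fun s _ => chiT_map ι c s]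
  refine Units.ext ?_
  show ((dU D (chiT D c) : GL D.Idx F) : Matrix D.Idx D.Idx F).map ι = _
  rw [dU_val, dU_val, diagC, diagC, Matrix.diagonal_map (map_zero ι)]
  congr 1
  funext a
  rcases a with i | s
  · exact map_one ι
  · rfl

end

section

variable {K : Type*} [Field K]

theorem chiT_eq_of_hT {c c' : ℕ → Kˣ} (h : hT D c = hT D c') {s : ℕ} (hs : s < D.nroots) :
    chiT D c s = chiT D c' s := by
  have h1 := congrArg (fun g : GL D.Idx K => (g : Matrix D.Idx D.Idx K) (Sum.inr ⟨s, hs⟩)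
    (Sum.inr ⟨s, hs⟩)) h
  simp only [hT_eq_dU, dU_val, diagC, Matrix.diagonal_apply_eq, Sum.elim_inr] at h1
  exact Units.ext h1

theorem hT_ext {c c' : ℕ → Kˣ} (h : ∀ s < D.nroots, chiT D c s = chiT D c' s) :
    hT D c = hT D c' := by
  rw [hT_eq_dU, hT_eq_dU]
  exact dU_congr h

theorem hT_ext_hom (hF : Facts D co) {c c' : ℕ → Kˣ} (h : torHom D c = torHom D c') :
    hT D c = hT D c' := hT_ext fun s hs => by
  have h1 := DFunLike.congr_fun h (coV D co s)
  rw [torHom_coV hF c hs, torHom_coV hF c' hs] at h1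
  exact Additive.ofMul.injective h1

theorem chiT_mul (c c' : ℕ → Kˣ) (s : ℕ) :
    chiT D (fun i => c i * c' i) s = chiT D c s * chiT D c' s := by
  simp only [chiT, mul_zpow, Finset.prod_mul_distrib]

theorem chiT_one (s : ℕ) : chiT D (fun _ => (1 : Kˣ)) s = 1 := by
  simp [chiT]

theorem chiT_pow_eq_one (hF : Facts D co) {c : ℕ → Kˣ} {r : ℕ} (h : hT D c ^ r = 1) {s : ℕ}
    (hs : s < D.nroots) : chiT D c s ^ r = 1 := by
  have key : ∀ k, hT D c ^ k = dU D (fun s => chiT D c s ^ k) := by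
    intro k
    induction k with
    | zero => simp [← dU_one]
    | succ k ih => rw [pow_succ, ih, hT_eq_dU, dU_mul]; simp only [pow_succ]
  rw [key, ← hF.hT_one, hT_eq_dU] at h
  have h1 := congrArg (fun g : GL D.Idx K => (g : Matrix D.Idx D.Idx K) (Sum.inr ⟨s, hs⟩)
    (Sum.inr ⟨s, hs⟩)) h
  simp only [dU_val, diagC, Matrix.diagonal_apply_eq, Sum.elim_inr, chiT_one] at h1
  exact Units.ext h1

/-- A monomial element transports characters. -/
theorem permAct_intertwine (hF : Facts D co) {n : GL D.Idx K} {σ : Equiv.Perm (Fin D.nroots)}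
    (hσ : PermAct n σ) {c c' : ℕ → Kˣ} (h : n * hT D c' = hT D c * n) (s : Fin D.nroots) :
    chiT D c' s.val = chiT D c (σ s).val := by
  obtain ⟨a, ha, h1, -⟩ := hσ s
  have e4 : n * (hT D c' * xU D s.val 1 * (hT D c')⁻¹) * n⁻¹ =
      hT D c * (n * xU D s.val 1 * n⁻¹) * (hT D c)⁻¹ := by
    calc n * (hT D c' * xU D s.val 1 * (hT D c')⁻¹) * n⁻¹
        = (n * hT D c') * xU D s.val 1 * (n * hT D c')⁻¹ := by group
      _ = (hT D c * n) * xU D s.val 1 * (hT D c * n)⁻¹ := by rw [h]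
      _ = _ := by group
  rw [hF.hT_conj_xU c' s.isLt, h1, h1, hF.hT_conj_xU c (σ s).isLt] at e4
  have e5 := hF.xU_left_inj (σ s).isLt e4
  simp only [mul_one] at e5
  rw [mul_comm] at e5
  exact Units.ext (mul_right_cancel₀ ha e5)

theorem monomial_conj_diag (hF : Facts D co) {n : GL D.Idx K} (hn : n ∈ D.monomialSubgroup K)
    {h : GL D.Idx K} (hh : h ∈ D.diagonalSubgroup K) : n * h * n⁻¹ ∈ D.diagonalSubgroup K := by
  have h1 : (⟨h, Subgroup.mem_sup_left hh⟩ : D.monomialSubgroup K) ∈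
      (hF.weylHom (F := K)).ker := by
    rw [hF.weylHom_ker]; exact hh
  have h2 := (MonoidHom.normal_ker (hF.weylHom (F := K))).conj_mem _ h1 ⟨n, hn⟩
  rw [hF.weylHom_ker] at h2
  exact h2

theorem monomial_conj_hT (hF : Facts D co) {n : GL D.Idx K} (hn : n ∈ D.monomialSubgroup K)
    {σ : Equiv.Perm (Fin D.nroots)} (hσ : PermAct n σ) {c c' : ℕ → Kˣ}
    (h : ∀ s : Fin D.nroots, chiT D c' s.val = chiT D c (σ s).val) :
    n * hT D c' = hT D c * n := by
  obtain ⟨b, hb⟩ := hF.mem_diagonal_iff.1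
    (monomial_conj_diag hF hn (hF.mem_diagonal_iff.2 ⟨c', rfl⟩))
  rw [mul_inv_eq_iff_eq_mul] at hb
  refine hb.trans ?_
  congr 1
  refine hT_ext fun s hs => ?_
  have h1 := permAct_intertwine hF hσ hb (σ⁻¹ ⟨s, hs⟩)
  have h2 := h (σ⁻¹ ⟨s, hs⟩)
  rw [← Equiv.Perm.mul_apply, mul_inv_cancel, Equiv.Perm.one_apply] at h1 h2
  exact h1.symm.trans h2

end

/-- An intertwiner of two diagonal elements has a Weyl group element intertwining the characters. -/
theorem exists_intertwine {K : Type v} [Field K] (hF : Facts D co) (hC : CommF.{v} D)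
    {c c' : ℕ → Kˣ} {g : GL D.Idx K} (hg : g ∈ D.group K) (h : hT D c * g = g * hT D c') :
    ∃ l : List (Fin D.rank),
      (∀ s : Fin D.nroots, chiT D c' s.val = chiT D c (sW D l s).val) ∧
      ((∀ s < D.nroots, chiT D c s ≠ 1) → (∀ s < D.nroots, chiT D c' s ≠ 1) →
        g ∈ D.monomialSubgroup K ∧ PermAct g (sW D l)) := by
  obtain ⟨b, hb, n, hn, σ, hσ, u, hu, rfl⟩ := hF.bruhat_exists hC hg
  obtain ⟨u1, hu1, k, hk, rfl⟩ := hF.mem_borel_iff.1 hb
  obtain ⟨l, k', hk', hlk⟩ := hF.exists_nW hn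
  have hσl : σ = sW D l := by
    have := hF.permAct_mul (hF.permAct_nW (F := K) l) (hF.permAct_diagonal hk')
    rw [mul_one, ← hlk] at this
    exact hF.permAct_unique hσ this
  subst hσl
  have hd : hT D c ∈ D.diagonalSubgroup K := hF.mem_diagonal_iff.2 ⟨c, rfl⟩
  have hd' : hT D c' ∈ D.diagonalSubgroup K := hF.mem_diagonal_iff.2 ⟨c', rfl⟩
  set d := hT D c with hdd
  set d' := hT D c' with hdd'
  have hu1c : d * u1 * d⁻¹ ∈ rootClosure D K (D.nroots / 2 ≤ ·) :=
    (Subgroup.mem_normalizer_iff.1 (hF.diagonal_le_normalizer _ hd) u1).1 hu1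
  have huc : d' * u * d'⁻¹ ∈ rootClosure D K (PosFlip (sW D l)) :=
    (Subgroup.mem_normalizer_iff.1 (hF.diagonal_le_normalizer _ hd') u).1 hu
  have hkc : d * k = k * d := by
    obtain ⟨a, rfl⟩ := hF.mem_diagonal_iff.1 hk
    rw [hdd, hT, hT]
    exact (dU_commute _ _).eq
  set e := n * d' * n⁻¹ with he
  have heD : e ∈ D.diagonalSubgroup K := monomial_conj_diag hF hn hd'
  have hb' : d * u1 * d⁻¹ * (k * d * e⁻¹) ∈ D.borelSubgroup K :=
    Subgroup.mul_mem _ (hF.pos_le_borel hu1c) (hF.diagonal_le_borel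
      (Subgroup.mul_mem _ (Subgroup.mul_mem _ hk hd) (Subgroup.inv_mem _ heD)))
  have heq : u1 * k * n * u = d * u1 * d⁻¹ * (k * d * e⁻¹) * n * (d' * u * d'⁻¹) := by
    calc u1 * k * n * u = (u1 * k * n * u * d') * d'⁻¹ := by group
      _ = (d * (u1 * k * n * u)) * d'⁻¹ := by rw [h]
      _ = d * u1 * d⁻¹ * (d * k) * n * u * d'⁻¹ := by group
      _ = d * u1 * d⁻¹ * (k * d) * n * u * d'⁻¹ := by rw [hkc]
      _ = _ := by rw [he]; group
  obtain ⟨hbe, hue⟩ := hF.bruhat_unique hσ hb hb' hu huc heq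
  have e2 : (d * u1 * d⁻¹)⁻¹ * u1 = k * d * e⁻¹ * k⁻¹ := by
    rw [eq_mul_inv_iff_mul_eq, mul_assoc, hbe]
    group
  have e3 : (d * u1 * d⁻¹)⁻¹ * u1 ∈ rootClosure D K (D.nroots / 2 ≤ ·) ⊓ D.diagonalSubgroup K :=
    ⟨Subgroup.mul_mem _ (Subgroup.inv_mem _ hu1c) hu1,
      e2 ▸ Subgroup.mul_mem _ (Subgroup.mul_mem _ (Subgroup.mul_mem _ hk hd)
        (Subgroup.inv_mem _ heD)) (Subgroup.inv_mem _ hk)⟩
  rw [hF.pos_inf_diagonal, Subgroup.mem_bot] at e3
  rw [e3, eq_comm, mul_inv_eq_one, mul_assoc, mul_eq_left, mul_inv_eq_one] at e2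
  have hnd : n * d' = d * n := by
    rw [e2, he]; group
  refine ⟨l, fun s => permAct_intertwine hF hσ hnd s, fun h1 h2 => ?_⟩
  have hu11 : u1 = 1 := G2Singer.pos_eq_one hF hC (hF.isWeight_hT c) h1 hu1 (inv_mul_eq_one.1 e3)
  have hu0 : u = 1 := G2Singer.pos_eq_one hF hC (hF.isWeight_hT c') h2
    (rootClosure_mono (fun _ _ h => h.2.1) hu) hue.symm
  rw [hu11, hu0, one_mul, mul_one]
  refine ⟨Subgroup.mul_mem _ (Subgroup.mem_sup_left hk) hn, ?_⟩
  simpa using hF.permAct_mul (hF.permAct_diagonal hk) hσ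

/-- An element of prime power order is conjugate into the diagonal subgroup when the index of the
latter is prime to `r`. -/
theorem exists_conj_diag {K : Type v} [Field K] [Finite K] (hF : Facts D co) {degs : List ℕ}
    (hlen : degs.length = D.rank)
    (hG : Nat.card ↥(D.group K) =
      Nat.card K ^ (D.nroots / 2) * (degs.map fun k => Nat.card K ^ k - 1).prod)
    (hH : Nat.card ↥(D.diagonalSubgroup K) = (Nat.card K - 1) ^ D.rank)
    {r : ℕ} [hr : Fact r.Prime] (hrQ : r ∣ Nat.card K - 1) (hrk : ∀ k ∈ degs, ¬ r ∣ k)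
    {x : GL D.Idx K} (hx : x ∈ D.group K) (hxr : x ^ r = 1) :
    ∃ g ∈ D.group K, g * x * g⁻¹ ∈ D.diagonalSubgroup K := by
  classical
  set Q := Nat.card K with hQdef
  have hQ : 1 < Q := Finite.one_lt_card
  obtain ⟨m, hm, hmr⟩ : ∃ m, Nat.card ↥(D.group K) = Nat.card ↥(D.diagonalSubgroup K) * m ∧
      ¬ r ∣ m := by
    refine ⟨Q ^ (D.nroots / 2) * (degs.map fun k => ∑ i ∈ Finset.range k, Q ^ i).prod, ?_, ?_⟩
    · rw [hG, hH, ← hlen]
      clear hG hH hrk hlen
      induction degs with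
      | nil => simp
      | cons k L ih =>
        rw [List.map_cons, List.prod_cons, List.map_cons, List.prod_cons, List.length_cons,
          pow_succ, ← geom_sum_mul_of_one_le (by omega) k]
        calc Q ^ (D.nroots / 2) * ((∑ i ∈ Finset.range k, Q ^ i) * (Q - 1) *
              (L.map fun k => Q ^ k - 1).prod)
            = (∑ i ∈ Finset.range k, Q ^ i) * (Q - 1) *
              (Q ^ (D.nroots / 2) * (L.map fun k => Q ^ k - 1).prod) := by ring
          _ = _ := by rw [ih]; ring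
    · have hQ1 : ((Q : ℕ) : ZMod r) = 1 := by
        have h0 : ((Q - 1 : ℕ) : ZMod r) = 0 := (ZMod.natCast_eq_zero_iff _ _).2 hrQ
        rwa [Nat.cast_sub hQ.le, Nat.cast_one, sub_eq_zero] at h0
      rw [← ZMod.natCast_eq_zero_iff _ r, Nat.cast_mul, Nat.cast_pow, hQ1, one_pow, one_mul,
        Nat.cast_list_prod, List.map_map]
      refine List.prod_ne_zero fun h0 => ?_
      obtain ⟨k, hk, hk0⟩ := List.mem_map.1 h0
      simp only [Function.comp_apply, Nat.cast_sum, Nat.cast_pow, hQ1, one_pow, Finset.sum_const,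
        Finset.card_range, nsmul_one] at hk0
      exact hrk k hk ((ZMod.natCast_eq_zero_iff _ _).1 hk0)
  haveI : Finite ↥(D.group K) := Nat.finite_of_card_ne_zero (by
    rw [hm, hH]
    exact mul_ne_zero (pow_ne_zero _ (by omega)) (fun h0 => hmr (h0 ▸ dvd_zero r)))
  set H := (D.diagonalSubgroup K).subgroupOf (D.group K) with hHdef
  have hHc : Nat.card ↥H = Nat.card ↥(D.diagonalSubgroup K) :=
    Nat.card_congr (Subgroup.subgroupOfEquivOfLe hF.diagonal_le_group).toEquiv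
  obtain ⟨S⟩ : Nonempty (Sylow r ↥H) := inferInstance
  set T : Subgroup ↥(D.group K) := (S : Subgroup ↥H).map H.subtype with hT'
  have hTp : IsPGroup r T := S.isPGroup'.map _
  have hidx : ¬ r ∣ T.index := by
    have h1 : T.index = (S : Subgroup ↥H).index * H.index := Subgroup.index_map_subtype _
    have h2 : H.index = m := by
      have := H.card_mul_index
      rw [hHc, hm] at this
      exact Nat.eq_of_mul_eq_mul_left Nat.card_pos this
    rw [h1, h2, (Nat.Prime.dvd_mul hr.out)]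
    push_neg
    exact ⟨S.not_dvd_index, hmr⟩
  obtain ⟨S', hS'⟩ : ∃ S' : Sylow r ↥(D.group K), (S' : Subgroup ↥(D.group K)) = T :=
    ⟨hTp.toSylow hidx, rfl⟩
  have hxp : IsPGroup r (Subgroup.zpowers (⟨x, hx⟩ : ↥(D.group K))) := by
    intro y
    refine ⟨1, ?_⟩
    obtain ⟨y, k, rfl⟩ := y
    refine Subtype.ext (Subtype.ext ?_)
    simp only [pow_one, Subgroup.coe_pow, Subgroup.coe_zpow, Subgroup.coe_one]
    rw [← zpow_natCast, ← zpow_mul, mul_comm, zpow_mul, zpow_natCast, hxr, one_zpow]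
  obtain ⟨S'', hS''⟩ := hxp.exists_le_sylow
  obtain ⟨g, hg⟩ := MulAction.exists_smul_eq (↥(D.group K)) S'' S'
  refine ⟨g, g.2, ?_⟩
  have h1 : g * (⟨x, hx⟩ : ↥(D.group K)) * g⁻¹ ∈ (S' : Subgroup ↥(D.group K)) := by
    rw [← hg]
    exact Subgroup.smul_mem_pointwise_smul _ (MulAut.conj g) _ (hS'' (Subgroup.mem_zpowers _))
  rw [hS', hT', Subgroup.mem_map] at h1
  obtain ⟨y, -, hy⟩ := h1
  have := y.2
  rw [Subgroup.mem_subgroupOf] at this
  rwa [show ((y : ↥(D.group K)) : GL D.Idx K) = (g : GL D.Idx K) * x * (g : GL D.Idx K)⁻¹ from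
    congrArg Subtype.val hy] at this

end CfsgLib.Known.ChevSinger
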