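import Mathlib

/-!
Integer matrices of finite order with an eigenvector modulo a primitive prime divisor, and the
Gram matrices of their cyclic lattices.
-/

set_option autoImplicit false

namespace CfsgLib.Known.ChevSinger

open Polynomial Matrix

variable {n : ℕ} {M : Type*} [AddCommGroup M]

theorem hom_aeval (A : Matrix (Fin n) (Fin n) ℤ) (q : ℤ) (L : (Fin n → ℤ) →+ M)
    (hL : ∀ v, L (A *ᵥ v) = q • L v) (p : ℤ[X]) :
    ∀ v, L (aeval A p *ᵥ v) = p.eval q • L v := by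
  have hpow : ∀ (k : ℕ) v, L (A ^ k *ᵥ v) = q ^ k • L v := by
    intro k
    induction k with
    | zero => intro v; simp
    | succ k ih => intro v; rw [pow_succ, ← mulVec_mulVec, ih, hL, ← mul_smul, ← pow_succ]
  induction p using Polynomial.induction_on' with
  | add p q' hp hq => intro v; simp [Matrix.add_mulVec, hp, hq, add_smul]
  | monomial k a =>
    intro v
    rw [aeval_monomial, ← Algebra.smul_def, Matrix.smul_mulVec, eval_monomial, map_zsmul, hpow,
      mul_smul]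

theorem eq_zero_of_coprime_zsmul {r : ℕ} (hr : r.Prime) {x : M} (h1 : (r : ℤ) • x = 0) {a : ℤ}
    (ha : ¬ (r : ℤ) ∣ a) (h2 : a • x = 0) : x = 0 := by
  obtain ⟨u, v, huv⟩ := ((Nat.prime_iff_prime_int.1 hr).coprime_iff_not_dvd).2 ha
  rw [← one_smul ℤ x, ← huv, add_smul, mul_smul, mul_smul, h1, h2, smul_zero, smul_zero, add_zero]

/-- The minimal polynomial of `A` is the cyclotomic polynomial. -/
theorem aeval_cyclotomic_eq_zero (A : Matrix (Fin n) (Fin n) ℤ) {m : ℕ} (hm : 0 < m)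
    (hAm : A ^ m = 1) {q d r : ℕ} (hr : r.Prime) (hrn : n + 1 < r) (hd : orderOf (q : ZMod r) = d)
    (hdn : d.totient = n) (hd0 : 0 < d) (L : (Fin n → ℤ) →+ M)
    (hL : ∀ v, L (A *ᵥ v) = (q : ℤ) • L v) (hrL : ∀ v, (r : ℤ) • L v = 0) (hne : ∃ v, L v ≠ 0) :
    aeval A (cyclotomic d ℤ) = 0 := by
  classical
  haveI : Fact r.Prime := ⟨hr⟩
  set Bad := m.divisors.filter fun k => (r : ℤ) ∣ (cyclotomic k ℤ).eval (q : ℤ) with hBad
  set f := ∏ k ∈ m.divisors \ Bad, cyclotomic k ℤ with hf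
  have hbad : ∀ k ∈ Bad, k = d ∨ n < k.totient := by
    intro k hk
    obtain ⟨hkm, hdvd⟩ := Finset.mem_filter.1 hk
    have hk0 : 0 < k := Nat.pos_of_mem_divisors hkm
    by_cases hrk : r ∣ k
    · refine Or.inr ?_
      have h1 : r.totient ∣ k.totient := Nat.totient_dvd_of_dvd hrk
      have h2 := Nat.le_of_dvd (Nat.totient_pos.2 hk0) h1
      rw [Nat.totient_prime hr] at h2
      omega
    · refine Or.inl ?_
      haveI : NeZero (k : ZMod r) := ⟨fun e => hrk ((CharP.cast_eq_zero_iff (ZMod r) r k).1 e)⟩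
      have hroot : (cyclotomic k (ZMod r)).IsRoot (q : ZMod r) := by
        rw [IsRoot.def, ← map_cyclotomic_int k (ZMod r), Polynomial.eval_map,
          ← Int.cast_natCast q, Polynomial.eval₂_at_intCast]
        exact (ZMod.intCast_zmod_eq_zero_iff_dvd _ _).2 hdvd
      rw [← hd, ← (Polynomial.isRoot_cyclotomic_iff.1 hroot).eq_orderOf]
  have hfA : aeval A f ≠ 0 := by
    intro h0
    obtain ⟨v, hv⟩ := hne
    refine hv (eq_zero_of_coprime_zsmul hr (hrL v) (a := f.eval (q : ℤ)) ?_ ?_)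
    · rw [hf, Polynomial.eval_prod]
      intro hdvd
      obtain ⟨k, hk, hk'⟩ := (Prime.dvd_finsetProd_iff (Nat.prime_iff_prime_int.1 hr) _).1 hdvd
      rw [Finset.mem_sdiff, hBad, Finset.mem_filter] at hk
      exact hk.2 ⟨hk.1, hk'⟩
    · rw [← hom_aeval A q L hL f v, h0, Matrix.zero_mulVec, map_zero]
  let ψ : Matrix (Fin n) (Fin n) ℤ →+* Matrix (Fin n) (Fin n) ℚ := (Int.castRingHom ℚ).mapMatrix
  have hψ : Function.Injective ψ := Matrix.map_injective Int.cast_injective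
  have hev : ∀ p : ℤ[X], ψ (aeval A p) = aeval (ψ A) (p.map (Int.castRingHom ℚ)) := fun p => by
    rw [aeval_def, aeval_def, eval₂_map, Polynomial.hom_eval₂]
    congr 1
    exact RingHom.ext_int _ _
  set μ := minpoly ℚ (ψ A) with hμ
  have hint : IsIntegral ℚ (ψ A) := Algebra.IsIntegral.isIntegral _
  have hμdeg : μ.natDegree ≤ n := by
    have h1 : μ ∣ (ψ A).charpoly := minpoly.dvd _ _ (Matrix.aeval_self_charpoly _)
    have h2 := Polynomial.natDegree_le_of_dvd h1 (Matrix.charpoly_monic _).ne_zero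
    rwa [Matrix.charpoly_natDegree_eq_dim, Fintype.card_fin] at h2
  have hμ0 : μ ≠ 0 := minpoly.ne_zero hint
  have hμall : μ ∣ ∏ k ∈ m.divisors, cyclotomic k ℚ := by
    refine minpoly.dvd _ _ ?_
    rw [prod_cyclotomic_eq_X_pow_sub_one hm ℚ, map_sub, map_pow, aeval_X, map_one, ← map_pow,
      hAm, map_one, sub_self]
  have hirr : ∀ k, 0 < k → Irreducible (cyclotomic k ℚ) := fun k hk => cyclotomic.irreducible_rat hk
  have hμf : μ ∣ f.map (Int.castRingHom ℚ) * cyclotomic d ℚ := by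
    have hsplit : ∏ k ∈ m.divisors, cyclotomic k ℚ =
        f.map (Int.castRingHom ℚ) * ∏ k ∈ Bad, cyclotomic k ℚ := by
      rw [hf, Polynomial.map_prod, Finset.prod_congr rfl fun k _ => map_cyclotomic_int k ℚ,
        Finset.prod_sdiff (Finset.filter_subset _ _)]
    rw [hsplit] at hμall
    have hrest : μ ∣ f.map (Int.castRingHom ℚ) * cyclotomic d ℚ * ∏ k ∈ Bad.erase d, cyclotomic k ℚ := by
      by_cases hdB : d ∈ Bad
      · rw [mul_assoc, Finset.mul_prod_erase _ (fun k => cyclotomic k ℚ) hdB]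
        exact hμall
      · rw [Finset.erase_eq_of_notMem hdB, mul_right_comm]
        exact hμall.mul_right _
    refine IsCoprime.dvd_of_dvd_mul_right ?_ hrest
    refine IsCoprime.prod_right fun k hk => ?_
    obtain ⟨hkd, hkB⟩ := Finset.mem_erase.1 hk
    have hlt := (hbad k hkB).resolve_left hkd
    have hk0 : 0 < k := Nat.pos_of_mem_divisors (Finset.mem_filter.1 hkB).1
    refine (((hirr k hk0).coprime_iff_not_dvd).2 fun hdvd => ?_).symm
    have := Polynomial.natDegree_le_of_dvd hdvd hμ0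
    rw [natDegree_cyclotomic] at this
    omega
  have hdvd : cyclotomic d ℚ ∣ μ := by
    by_contra hnd
    have h1 : μ ∣ f.map (Int.castRingHom ℚ) :=
      ((((hirr d hd0).coprime_iff_not_dvd).2 hnd).symm).dvd_of_dvd_mul_right hμf
    refine hfA (hψ ?_)
    rw [map_zero, hev]
    obtain ⟨g, hg⟩ := h1
    rw [hg, map_mul, hμ, minpoly.aeval, zero_mul]
  have heq : cyclotomic d ℚ = μ :=
    Polynomial.eq_of_monic_of_associated (cyclotomic.monic d ℚ) (minpoly.monic hint)
      (associated_of_dvd_of_natDegree_le hdvd hμ0 (by rw [natDegree_cyclotomic]; omega))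
  refine hψ ?_
  rw [map_zero, hev, map_cyclotomic_int, heq, hμ, minpoly.aeval]

/-- The orbit basis matrix. -/
def orbitMat (A : Matrix (Fin n) (Fin n) ℤ) (v : Fin n → ℤ) : Matrix (Fin n) (Fin n) ℤ :=
  Matrix.of fun j i => (A ^ (i : ℕ) *ᵥ v) j

theorem orbitMat_mulVec (A : Matrix (Fin n) (Fin n) ℤ) (v c : Fin n → ℤ) :
    orbitMat A v *ᵥ c = ∑ i, c i • (A ^ (i : ℕ) *ᵥ v) := by
  funext j
  simp [orbitMat, Matrix.mulVec, dotProduct, Finset.sum_apply, mul_comm]

theorem det_orbitMat_ne_zero (A : Matrix (Fin n) (Fin n) ℤ) {d : ℕ} (hd0 : 0 < d)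
    (hdn : d.totient = n) (hA : aeval A (cyclotomic d ℤ) = 0) {v : Fin n → ℤ} (hv : v ≠ 0) :
    (orbitMat A v).det ≠ 0 := by
  intro hdet
  obtain ⟨c, hc0, hc⟩ := Matrix.exists_mulVec_eq_zero_iff.2 hdet
  rw [orbitMat_mulVec] at hc
  let g : ℤ[X] := ∑ i : Fin n, Polynomial.monomial (i : ℕ) (c i)
  have hg0 : g ≠ 0 := by
    intro h0
    refine hc0 (funext fun i => ?_)
    have := congrArg (fun p : ℤ[X] => p.coeff (i : ℕ)) h0
    simpa [g, Polynomial.finsetSum_coeff, Polynomial.coeff_monomial, Fin.val_inj] using this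
  have hgd : g.natDegree < n := by
    have hn : 0 < n := by rw [← hdn]; exact Nat.totient_pos.2 hd0
    refine lt_of_le_of_lt (Polynomial.natDegree_sum_le_of_forall_le _ _ (n := n - 1) fun i _ =>
      (Polynomial.natDegree_monomial_le _).trans (by omega)) (by omega)
  have hgv : aeval A g *ᵥ v = 0 := by
    simp only [g, map_sum, aeval_monomial, ← Algebra.smul_def, Matrix.sum_mulVec, Matrix.smul_mulVec]
    exact hc
  let ψ : Matrix (Fin n) (Fin n) ℤ →+* Matrix (Fin n) (Fin n) ℚ := (Int.castRingHom ℚ).mapMatrix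
  have hev : ∀ p : ℤ[X], ψ (aeval A p) = aeval (ψ A) (p.map (Int.castRingHom ℚ)) := fun p => by
    rw [aeval_def, aeval_def, eval₂_map, Polynomial.hom_eval₂]
    congr 1
    exact RingHom.ext_int _ _
  have hndvd : ¬ cyclotomic d ℚ ∣ g.map (Int.castRingHom ℚ) := fun hdvd => by
    have := Polynomial.natDegree_le_of_dvd hdvd
      ((Polynomial.map_ne_zero_iff Int.cast_injective).2 hg0)
    rw [natDegree_cyclotomic, hdn] at this
    have := this.trans Polynomial.natDegree_map_le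
    omega
  obtain ⟨a, b, hab⟩ := ((cyclotomic.irreducible_rat hd0).coprime_iff_not_dvd).2 hndvd
  have h1 := congrArg (aeval (ψ A)) hab
  rw [map_add, map_mul, map_mul, ← map_cyclotomic_int, ← hev, hA, map_zero, mul_zero, zero_add,
    ← hev, map_one] at h1
  have h2 : (fun j => ((v j : ℤ) : ℚ)) = 0 := by
    calc (fun j => ((v j : ℤ) : ℚ)) = (1 : Matrix (Fin n) (Fin n) ℚ) *ᵥ fun j => ((v j : ℤ) : ℚ) :=
          (Matrix.one_mulVec _).symm
      _ = aeval (ψ A) b *ᵥ (ψ (aeval A g) *ᵥ fun j => ((v j : ℤ) : ℚ)) := by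
          rw [Matrix.mulVec_mulVec, h1]
      _ = 0 := by
          have h3 : ψ (aeval A g) *ᵥ (fun j => ((v j : ℤ) : ℚ)) = 0 := by
            funext j
            have := congrArg (fun z : ℤ => (z : ℚ)) (congrFun hgv j)
            simpa [ψ, Matrix.mulVec, dotProduct] using this
          rw [h3, Matrix.mulVec_zero]
  exact hv (funext fun j => by simpa using congrFun h2 j)

/-- The Gram sequence of an orbit. -/
def gseq (B A : Matrix (Fin n) (Fin n) ℤ) (v : Fin n → ℤ) (k : ℕ) : ℤ := v ⬝ᵥ B *ᵥ (A ^ k *ᵥ v)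

theorem gram_entry {B A : Matrix (Fin n) (Fin n) ℤ} (hB : Bᵀ = B) (hA : Aᵀ * B * A = B)
    (v : Fin n → ℤ) (i j : ℕ) :
    (A ^ i *ᵥ v) ⬝ᵥ B *ᵥ (A ^ j *ᵥ v) = gseq B A v ((i - j) + (j - i)) := by
  have hp : ∀ k, (A ^ k)ᵀ * B * A ^ k = B := by
    intro k
    induction k with
    | zero => simp
    | succ k ih =>
      calc (A ^ (k + 1))ᵀ * B * A ^ (k + 1) = (A ^ k)ᵀ * (Aᵀ * B * A) * A ^ k := by
            nth_rewrite 1 [pow_succ']
            rw [pow_succ', Matrix.transpose_mul]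
            simp only [mul_assoc]
        _ = B := by rw [hA, ih]
  have key : ∀ i k, (A ^ i *ᵥ v) ⬝ᵥ B *ᵥ (A ^ (i + k) *ᵥ v) = gseq B A v k := fun i k => by
    rw [gseq, pow_add, ← Matrix.mulVec_mulVec, ← Matrix.vecMul_transpose (A ^ i) v,
      ← Matrix.dotProduct_mulVec, Matrix.mulVec_mulVec, Matrix.mulVec_mulVec, hp]
  have sym : ∀ x y : Fin n → ℤ, x ⬝ᵥ B *ᵥ y = y ⬝ᵥ B *ᵥ x := fun x y => by
    rw [Matrix.dotProduct_mulVec, dotProduct_comm, ← Matrix.mulVec_transpose, hB]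
  rcases le_total i j with h | h
  · obtain ⟨k, rfl⟩ := Nat.exists_eq_add_of_le h
    rw [key, Nat.sub_eq_zero_of_le (Nat.le_add_right i k), zero_add, Nat.add_sub_cancel_left]
  · obtain ⟨k, rfl⟩ := Nat.exists_eq_add_of_le h
    rw [Nat.sub_eq_zero_of_le (Nat.le_add_right j k), add_zero, Nat.add_sub_cancel_left, ← key j k,
      sym]

theorem gseq_recurrence {B A : Matrix (Fin n) (Fin n) ℤ} (hB : Bᵀ = B) (hA : Aᵀ * B * A = B)
    (v : Fin n → ℤ) {P : ℤ[X]} {m : ℕ} (hm : P.natDegree ≤ m) (hP : aeval A P = 0) (i : ℕ) :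
    ∑ k ∈ Finset.range (m + 1), P.coeff k * gseq B A v ((i - k) + (k - i)) = 0 := by
  have e : ∀ k, P.coeff k * gseq B A v ((i - k) + (k - i)) =
      (A ^ i *ᵥ v) ⬝ᵥ B *ᵥ ((P.coeff k • A ^ k) *ᵥ v) := fun k => by
    rw [← gram_entry hB hA v i k, Matrix.smul_mulVec, Matrix.mulVec_smul, dotProduct_smul, smul_eq_mul]
  rw [Finset.sum_congr rfl fun k _ => e k, ← dotProduct_sum, ← Matrix.mulVec_sum, ← Matrix.sum_mulVec,
    ← Polynomial.aeval_eq_sum_range' (by omega : P.natDegree < m + 1), hP, Matrix.zero_mulVec,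
    Matrix.mulVec_zero, dotProduct_zero]

/-- The Gram matrix of a sequence. -/
def gramOf (g : ℕ → ℤ) : Matrix (Fin n) (Fin n) ℤ :=
  Matrix.of fun i j => g (((i : ℕ) - j) + ((j : ℕ) - i))

theorem det_gram {B A : Matrix (Fin n) (Fin n) ℤ} (hB : Bᵀ = B) (hA : Aᵀ * B * A = B)
    (v : Fin n → ℤ) :
    (orbitMat A v).det ^ 2 * B.det = (gramOf (gseq B A v) : Matrix (Fin n) (Fin n) ℤ).det := by
  have e : (gramOf (gseq B A v) : Matrix (Fin n) (Fin n) ℤ) = (orbitMat A v)ᵀ * (B * orbitMat A v) := by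
    ext i j
    rw [gramOf, Matrix.of_apply, ← gram_entry hB hA]
    rfl
  rw [e, Matrix.det_mul, Matrix.det_mul, Matrix.det_transpose]
  ring

end CfsgLib.Known.ChevSinger
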