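import Cfsg.Agent.Lib.Known.ChevSinger.Linear

/-!
Bounds and positivity for the Gram sequence of an orbit under an isometry of a definite form.
-/

set_option autoImplicit false

namespace CfsgLib.Known.ChevSinger

open Matrix

variable {n : ℕ} {B A : Matrix (Fin n) (Fin n) ℤ}

theorem gram_eq (hB : Bᵀ = B) (hA : Aᵀ * B * A = B) (v : Fin n → ℤ) :
    (gramOf (gseq B A v) : Matrix (Fin n) (Fin n) ℤ) = (orbitMat A v)ᵀ * (B * orbitMat A v) := by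
  ext i j
  rw [gramOf, Matrix.of_apply, ← gram_entry hB hA]
  rfl

theorem gram_quad (hB : Bᵀ = B) (hA : Aᵀ * B * A = B) (v c : Fin n → ℤ) :
    c ⬝ᵥ (gramOf (gseq B A v) : Matrix (Fin n) (Fin n) ℤ) *ᵥ c =
      (orbitMat A v *ᵥ c) ⬝ᵥ B *ᵥ (orbitMat A v *ᵥ c) := by
  rw [gram_eq hB hA, ← Matrix.mulVec_mulVec, Matrix.dotProduct_mulVec, Matrix.vecMul_transpose,
    Matrix.mulVec_mulVec]

theorem gram_pos (hB : Bᵀ = B) (hA : Aᵀ * B * A = B) (hpd : ∀ w, w ≠ 0 → 0 < w ⬝ᵥ B *ᵥ w)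
    {v : Fin n → ℤ} (hdet : (orbitMat A v).det ≠ 0) {c : Fin n → ℤ} (hc : c ≠ 0) :
    0 < c ⬝ᵥ (gramOf (gseq B A v) : Matrix (Fin n) (Fin n) ℤ) *ᵥ c := by
  rw [gram_quad hB hA]
  exact hpd _ fun h => hdet (Matrix.exists_mulVec_eq_zero_iff.1 ⟨c, hc, h⟩)

theorem gseq_bound (hB : Bᵀ = B) (hA : Aᵀ * B * A = B) (hnn : ∀ w, 0 ≤ w ⬝ᵥ B *ᵥ w)
    (v : Fin n → ℤ) (k : ℕ) :
    -gseq B A v 0 ≤ gseq B A v k ∧ gseq B A v k ≤ gseq B A v 0 := by
  have h00 := gram_entry hB hA v k k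
  have h01 := gram_entry hB hA v 0 k
  have h10 := gram_entry hB hA v k 0
  have h := gram_entry hB hA v 0 0
  simp only [pow_zero, Matrix.one_mulVec, Nat.sub_self, add_zero, zero_add, Nat.zero_sub,
    Nat.sub_zero] at h h00 h01 h10
  have hp := hnn (v + A ^ k *ᵥ v)
  have hm := hnn (v - A ^ k *ᵥ v)
  simp only [Matrix.mulVec_add, Matrix.mulVec_sub, add_dotProduct, sub_dotProduct, dotProduct_add,
    dotProduct_sub, h, h00, h01, h10] at hp hm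
  constructor <;> linarith

end CfsgLib.Known.ChevSinger
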