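import Cfsg.Agent.Lib.Known.ChevSinger.Torus
import Cfsg.Agent.Lib.Known.ChevSinger.Common

/-!
A self-centralising cyclic torus of `E₈(q)` of order the thirtieth cyclotomic value.
-/

set_option autoImplicit false
set_option maxRecDepth 20000

namespace CfsgLib.Known.ChevSinger.E8

open Cfsg.Lie CfsgLib.Chev Polynomial Matrix

universe u

/-- The scalar product. -/
def form : Matrix (Fin 8) (Fin 8) ℤ :=
  !![2, 0, -1, 0, 0, 0, 0, 0;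
    0, 2, 0, -1, 0, 0, 0, 0;
    -1, 0, 2, -1, 0, 0, 0, 0;
    0, -1, -1, 2, -1, 0, 0, 0;
    0, 0, 0, -1, 2, -1, 0, 0;
    0, 0, 0, 0, -1, 2, -1, 0;
    0, 0, 0, 0, 0, -1, 2, -1;
    0, 0, 0, 0, 0, 0, -1, 2]
/-- Its inverse. -/
def formInv : Matrix (Fin 8) (Fin 8) ℤ :=
  !![4, 5, 7, 10, 8, 6, 4, 2;
    5, 8, 10, 15, 12, 9, 6, 3;
    7, 10, 14, 20, 16, 12, 8, 4;
    10, 15, 20, 30, 24, 18, 12, 6;
    8, 12, 16, 24, 20, 15, 10, 5;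
    6, 9, 12, 18, 15, 12, 8, 4;
    4, 6, 8, 12, 10, 8, 6, 3;
    2, 3, 4, 6, 5, 4, 3, 2]

theorem form_symm : formᵀ = form := by decide +kernel

theorem form_nonneg (w : Fin 8 → ℤ) : 0 ≤ w ⬝ᵥ form *ᵥ w := by
  have e : 60 * (w ⬝ᵥ form *ᵥ w) =
      30 * (2 * w 0 - w 2) ^ 2 +
        30 * (2 * w 1 - w 3) ^ 2 +
        10 * (3 * w 2 - 2 * w 3) ^ 2 +
        2 * (5 * w 3 - 6 * w 4) ^ 2 +
        3 * (4 * w 4 - 5 * w 5) ^ 2 +
        5 * (3 * w 5 - 4 * w 6) ^ 2 +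
        10 * (2 * w 6 - 3 * w 7) ^ 2 +
        30 * (w 7) ^ 2 := by
    simp only [form, dotProduct, Matrix.mulVec, Fin.sum_univ_eight, Matrix.of_apply, Matrix.cons_val]
    ring
  have a0 := sq_nonneg (2 * w 0 - w 2)
  have a1 := sq_nonneg (2 * w 1 - w 3)
  have a2 := sq_nonneg (3 * w 2 - 2 * w 3)
  have a3 := sq_nonneg (5 * w 3 - 6 * w 4)
  have a4 := sq_nonneg (4 * w 4 - 5 * w 5)
  have a5 := sq_nonneg (3 * w 5 - 4 * w 6)
  have a6 := sq_nonneg (2 * w 6 - 3 * w 7)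
  have a7 := sq_nonneg (w 7)
  linarith

theorem form_pos (w : Fin 8 → ℤ) (hw : w ≠ 0) : 0 < w ⬝ᵥ form *ᵥ w := by
  refine lt_of_le_of_ne (form_nonneg w) fun h => hw ?_
  have e : 60 * (w ⬝ᵥ form *ᵥ w) =
      30 * (2 * w 0 - w 2) ^ 2 +
        30 * (2 * w 1 - w 3) ^ 2 +
        10 * (3 * w 2 - 2 * w 3) ^ 2 +
        2 * (5 * w 3 - 6 * w 4) ^ 2 +
        3 * (4 * w 4 - 5 * w 5) ^ 2 +
        5 * (3 * w 5 - 4 * w 6) ^ 2 +
        10 * (2 * w 6 - 3 * w 7) ^ 2 +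
        30 * (w 7) ^ 2 := by
    simp only [form, dotProduct, Matrix.mulVec, Fin.sum_univ_eight, Matrix.of_apply, Matrix.cons_val]
    ring
  rw [← h] at e
  have a0 := sq_nonneg (2 * w 0 - w 2)
  have a1 := sq_nonneg (2 * w 1 - w 3)
  have a2 := sq_nonneg (3 * w 2 - 2 * w 3)
  have a3 := sq_nonneg (5 * w 3 - 6 * w 4)
  have a4 := sq_nonneg (4 * w 4 - 5 * w 5)
  have a5 := sq_nonneg (3 * w 5 - 4 * w 6)
  have a6 := sq_nonneg (2 * w 6 - 3 * w 7)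
  have a7 := sq_nonneg (w 7)
  have z0 : 2 * w 0 - w 2 = 0 := (pow_eq_zero_iff two_ne_zero).1 (by linarith)
  have z1 : 2 * w 1 - w 3 = 0 := (pow_eq_zero_iff two_ne_zero).1 (by linarith)
  have z2 : 3 * w 2 - 2 * w 3 = 0 := (pow_eq_zero_iff two_ne_zero).1 (by linarith)
  have z3 : 5 * w 3 - 6 * w 4 = 0 := (pow_eq_zero_iff two_ne_zero).1 (by linarith)
  have z4 : 4 * w 4 - 5 * w 5 = 0 := (pow_eq_zero_iff two_ne_zero).1 (by linarith)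
  have z5 : 3 * w 5 - 4 * w 6 = 0 := (pow_eq_zero_iff two_ne_zero).1 (by linarith)
  have z6 : 2 * w 6 - 3 * w 7 = 0 := (pow_eq_zero_iff two_ne_zero).1 (by linarith)
  have z7 : w 7 = 0 := (pow_eq_zero_iff two_ne_zero).1 (by linarith)
  funext i
  fin_cases i <;> simp <;> omega

theorem formInv_nonneg (w : Fin 8 → ℤ) : 0 ≤ w ⬝ᵥ formInv *ᵥ w := by
  have e : 420 * (w ⬝ᵥ formInv *ᵥ w) =
      105 * (4 * w 0 + 5 * w 1 + 7 * w 2 + 10 * w 3 + 8 * w 4 + 6 * w 5 + 4 * w 6 + 2 * w 7) ^ 2 +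
        15 * (7 * w 1 + 5 * w 2 + 10 * w 3 + 8 * w 4 + 6 * w 5 + 4 * w 6 + 2 * w 7) ^ 2 +
        10 * (6 * w 2 + 5 * w 3 + 4 * w 4 + 3 * w 5 + 2 * w 6 + w 7) ^ 2 +
        14 * (5 * w 3 + 4 * w 4 + 3 * w 5 + 2 * w 6 + w 7) ^ 2 +
        21 * (4 * w 4 + 3 * w 5 + 2 * w 6 + w 7) ^ 2 +
        35 * (3 * w 5 + 2 * w 6 + w 7) ^ 2 +
        70 * (2 * w 6 + w 7) ^ 2 +
        210 * (w 7) ^ 2 := by
    simp only [formInv, dotProduct, Matrix.mulVec, Fin.sum_univ_eight, Matrix.of_apply, Matrix.cons_val]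
    ring
  have a0 := sq_nonneg (4 * w 0 + 5 * w 1 + 7 * w 2 + 10 * w 3 + 8 * w 4 + 6 * w 5 + 4 * w 6 + 2 * w 7)
  have a1 := sq_nonneg (7 * w 1 + 5 * w 2 + 10 * w 3 + 8 * w 4 + 6 * w 5 + 4 * w 6 + 2 * w 7)
  have a2 := sq_nonneg (6 * w 2 + 5 * w 3 + 4 * w 4 + 3 * w 5 + 2 * w 6 + w 7)
  have a3 := sq_nonneg (5 * w 3 + 4 * w 4 + 3 * w 5 + 2 * w 6 + w 7)
  have a4 := sq_nonneg (4 * w 4 + 3 * w 5 + 2 * w 6 + w 7)
  have a5 := sq_nonneg (3 * w 5 + 2 * w 6 + w 7)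
  have a6 := sq_nonneg (2 * w 6 + w 7)
  have a7 := sq_nonneg (w 7)
  linarith

/-- The coefficient vector of a root. -/
def cv (s : Fin chevE8.nroots) : Fin 8 → ℤ := coV chevE8 DataE8.co s.val

/-- A fundamental reflection. -/
def refl8 (i : Fin 8) : Matrix (Fin 8) (Fin 8) ℤ := reflM chevE8 i

theorem refl8_form : ∀ i : Fin 8, (refl8 i)ᵀ * form * refl8 i = form := by decide +kernel

theorem root_norm : ∀ s : Fin chevE8.nroots, cv s ⬝ᵥ form *ᵥ cv s = 2 := by decide +kernel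

theorem coroot_eq : ∀ s : Fin chevE8.nroots,
    formInv *ᵥ (fun j : Fin 8 => prE chevE8 s.val (chevE8.simple j.val)) = cv s ∧
    (fun j : Fin 8 => prE chevE8 s.val (chevE8.simple j.val)) ⬝ᵥ cv s = 2 := by decide +kernel

theorem alcove : AlcoveData chevE8 DataE8.co form formInv 1 239 where
  symm := (by decide +kernel : formInvᵀ = formInv)
  nonneg := formInv_nonneg
  pos_norm := fun s => show (0 : ℤ) < cv s ⬝ᵥ form *ᵥ cv s by rw [root_norm s]; norm_num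
  coroot := fun s => show (cv s ⬝ᵥ form *ᵥ cv s) •
      (formInv *ᵥ fun j : Fin 8 => prE chevE8 s.val (chevE8.simple j.val)) = (2 * 1 : ℤ) • cv s by
    rw [root_norm s, (coroot_eq s).1, mul_one]
  prE_self := fun s => (coroot_eq s).2
  cc_pos := by norm_num
  theta_lt := by decide +kernel
  theta_co := by decide +kernel

theorem cyclotomic_thirty :
    cyclotomic 30 ℤ = X ^ 8 + X ^ 7 - X ^ 5 - X ^ 4 - X ^ 3 + X + 1 := by
  have h := cyclotomic_expand_eq_cyclotomic_mul (p := 5) (n := 6) (by norm_num) (by norm_num) ℤ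
  have h6 : cyclotomic 6 ℤ = X ^ 2 - X + 1 := Polynomial.cyclotomic_six ℤ
  rw [h6, show 6 * 5 = 30 from rfl, map_add, map_sub, map_pow, expand_X, map_one] at h
  refine mul_right_cancel₀ (b := (X ^ 2 - X + 1 : ℤ[X])) (h6 ▸ cyclotomic_ne_zero 6 ℤ) ?_
  rw [← h]
  ring

/-- The Gram sequence with given first values. -/
def gtab (a b c : ℤ) (k : ℕ) : ℤ := [2, a, b, c, 1 - c + a, 1, c - 1, b - c].getD k 0

theorem gseq_eq {A : Matrix (Fin 8) (Fin 8) ℤ} (hA : Aᵀ * form * A = form)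
    (hΦ : aeval A (cyclotomic 30 ℤ) = 0) (s : Fin chevE8.nroots) :
    ∀ k < 8, gseq form A (cv s) k =
      gtab (gseq form A (cv s) 1) (gseq form A (cv s) 2) (gseq form A (cv s) 3) k := by
  rw [cyclotomic_thirty] at hΦ
  have hdeg : ((X : ℤ[X]) ^ 8 + X ^ 7 - X ^ 5 - X ^ 4 - X ^ 3 + X + 1).natDegree ≤ 8 := by
    compute_degree
  have h1 := gseq_recurrence form_symm hA (cv s) hdeg hΦ 1
  have h2 := gseq_recurrence form_symm hA (cv s) hdeg hΦ 2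
  have h3 := gseq_recurrence form_symm hA (cv s) hdeg hΦ 3
  have h4 := gseq_recurrence form_symm hA (cv s) hdeg hΦ 4
  simp [Finset.sum_range_succ, coeff_X_pow, coeff_one, coeff_X] at h1 h2 h3 h4
  have h0 : gseq form A (cv s) 0 = 2 := by simpa [gseq] using root_norm s
  intro k hk
  interval_cases k <;> simp [gtab] <;> linarith

/-- Inverses of the possible Gram matrices. -/
def grams : List (Matrix (Fin 8) (Fin 8) ℤ) := [
  !![2, 2, 1, 0, -1, -2, -1, 0; 2, 4, 3, 1, -1, -3, -3, -1; 1, 3, 4, 2, 0, -2, -3, -2; 0, 1, 2, 2, 1, 0, -1, -1; -1, -1, 0, 1, 2, 2, 1, 0; -2, -3, -2, 0, 2, 4, 3, 1; -1, -3, -3, -1, 1, 3, 4, 2; 0, -1, -2, -1, 0, 1, 2, 2],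
  !![2, 1, 0, -1, -1, -1, 0, 1; 1, 2, 1, 0, -1, -1, -1, 0; 0, 1, 2, 1, 0, -1, -1, -1; -1, 0, 1, 2, 1, 0, -1, -1; -1, -1, 0, 1, 2, 1, 0, -1; -1, -1, -1, 0, 1, 2, 1, 0; 0, -1, -1, -1, 0, 1, 2, 1; 1, 0, -1, -1, -1, 0, 1, 2],
  !![2, 1, -1, -1, -1, -1, 1, 1; 1, 2, 0, -1, -1, -1, 0, 1; -1, 0, 2, 1, 0, 0, -1, -1; -1, -1, 1, 2, 1, 0, -1, -1; -1, -1, 0, 1, 2, 1, -1, -1; -1, -1, 0, 0, 1, 2, 0, -1; 1, 0, -1, -1, -1, 0, 2, 1; 1, 1, -1, -1, -1, -1, 1, 2],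
  !![4, 1, -1, -2, -2, -2, 1, 3; 1, 2, 0, 0, -1, -1, -1, 1; -1, 0, 2, 1, 1, 0, -1, -2; -2, 0, 1, 2, 1, 1, -1, -2; -2, -1, 1, 1, 2, 1, 0, -2; -2, -1, 0, 1, 1, 2, 0, -1; 1, -1, -1, -1, 0, 0, 2, 1; 3, 1, -2, -2, -2, -1, 1, 4],
  !![6, 2, -4, -2, -3, -4, 4, 4; 2, 4, -2, -2, -1, -3, 0, 4; -4, -2, 4, 2, 2, 3, -3, -4; -2, -2, 2, 2, 1, 2, -1, -3; -3, -1, 2, 1, 2, 2, -2, -2; -4, -3, 3, 2, 2, 4, -2, -4; 4, 0, -3, -1, -2, -2, 4, 2; 4, 4, -4, -3, -2, -4, 2, 6],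
  !![8, 1, -2, -5, -4, -3, 2, 7; 1, 2, -1, 0, -2, 0, -1, 2; -2, -1, 2, 1, 2, 0, 0, -3; -5, 0, 1, 4, 2, 2, -2, -4; -4, -2, 2, 2, 4, 1, 0, -5; -3, 0, 0, 2, 1, 2, -1, -2; 2, -1, 0, -2, 0, -1, 2, 1; 7, 2, -3, -4, -5, -2, 1, 8],
  !![2, 1, -1, -2, -1, 0, 1, 1; 1, 2, 0, -2, -2, 0, 1, 1; -1, 0, 2, 1, -1, -1, 0, 0; -2, -2, 1, 4, 2, -1, -2, -1; -1, -2, -1, 2, 4, 1, -2, -2; 0, 0, -1, -1, 1, 2, 0, -1; 1, 1, 0, -2, -2, 0, 2, 1; 1, 1, 0, -1, -2, -1, 1, 2],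
  !![4, 1, -2, -2, -2, -2, 2, 3; 1, 2, -1, -1, -1, -1, 0, 2; -2, -1, 2, 1, 1, 1, -1, -2; -2, -1, 1, 2, 1, 1, -1, -2; -2, -1, 1, 1, 2, 1, -1, -2; -2, -1, 1, 1, 1, 2, -1, -2; 2, 0, -1, -1, -1, -1, 2, 1; 3, 2, -2, -2, -2, -2, 1, 4]]

/-- Test vectors excluding the impossible Gram matrices. -/
def tests : List (Fin 8 → ℤ) := [![0, 0, 0, 0, 0, 0, 1, 1],
  ![0, 0, 0, 0, 0, 1, 0, 1],
  ![0, 0, 0, 0, 1, 0, 0, 1],
  ![0, 1, 0, 0, 0, 0, 0, 1],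
  ![0, 0, 0, 0, 0, 1, 1, 1],
  ![0, 0, 0, 0, 1, 0, 0, -1],
  ![0, 0, 0, 0, 1, 0, -1, -1],
  ![1, 0, 0, 0, 0, 0, 0, 1],
  ![0, 1, 0, -1, 0, 0, 0, 1],
  ![0, 0, 0, 1, 0, 0, 0, -1],
  ![1, 0, 0, -1, 0, 0, 0, 1]]

theorem gram_cases : ∀ a b c : Fin 5,
    (∃ w ∈ tests, w ≠ 0 ∧ w ⬝ᵥ (gramOf (gtab ((a.val : ℤ) - 2) ((b.val : ℤ) - 2) ((c.val : ℤ) - 2)) :
      Matrix (Fin 8) (Fin 8) ℤ) *ᵥ w ≤ 0) ∨
    ∃ X ∈ grams, (gramOf (gtab ((a.val : ℤ) - 2) ((b.val : ℤ) - 2) ((c.val : ℤ) - 2)) :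
      Matrix (Fin 8) (Fin 8) ℤ) * X = 1 := by decide +kernel

theorem unit_det (A : Matrix (Fin 8) (Fin 8) ℤ) (hA : Aᵀ * form * A = form)
    (hΦ : aeval A (cyclotomic 30 ℤ) = 0) (s : Fin chevE8.nroots) :
    IsUnit (orbitMat A (cv s)).det := by
  have hne : (orbitMat A (cv s)).det ≠ 0 :=
    det_orbitMat_ne_zero A (by norm_num) (by decide : Nat.totient 30 = 8) hΦ
      (coV_ne_zero DataE8.facts s.isLt)
  have h0 : gseq form A (cv s) 0 = 2 := by simpa [gseq] using root_norm s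
  have hb := fun k => gseq_bound form_symm hA form_nonneg (cv s) k
  rw [h0] at hb
  have hk : ∀ k, ∃ a : Fin 5, gseq form A (cv s) k = (a.val : ℤ) - 2 := fun k =>
    ⟨⟨(gseq form A (cv s) k + 2).toNat, by have := hb k; omega⟩, by
      show gseq form A (cv s) k = ((gseq form A (cv s) k + 2).toNat : ℤ) - 2
      have := hb k; omega⟩
  obtain ⟨a, ha⟩ := hk 1
  obtain ⟨b, hb'⟩ := hk 2
  obtain ⟨c, hc⟩ := hk 3
  have hG : (gramOf (gseq form A (cv s)) : Matrix (Fin 8) (Fin 8) ℤ) =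
      gramOf (gtab ((a.val : ℤ) - 2) ((b.val : ℤ) - 2) ((c.val : ℤ) - 2)) := by
    ext i j
    simp only [gramOf, Matrix.of_apply]
    rw [gseq_eq hA hΦ s _ (by omega), ha, hb', hc]
  rcases gram_cases a b c with ⟨w, -, hw, hle⟩ | ⟨X, -, hX⟩
  · rw [← hG] at hle
    exact absurd (gram_pos form_symm hA form_pos hne hw) (not_lt.2 hle)
  · have hu := Matrix.isUnit_det_of_right_inverse hX
    rw [← hG, ← det_gram form_symm hA, pow_two, mul_assoc] at hu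
    exact isUnit_of_mul_isUnit_left hu

theorem data : SingerData chevE8 DataE8.co 30 [2, 8, 12, 14, 18, 20, 24, 30] formInv form where
  comm := good_E8.comm
  three := by norm_num
  totient := (by decide : Nat.totient 30 = 8)
  inv := by decide +kernel
  len := rfl
  mem := by simp
  small r hr hdr := by
    obtain ⟨k, hk⟩ := hdr
    have := hr.two_le
    refine ⟨show 8 + 1 < r by omega, fun m hm hd => ?_⟩
    simp only [List.mem_cons, List.not_mem_nil, or_false] at hm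
    have := Nat.le_of_dvd (by omega) hd
    omega
  order K _ _ := by
    refine ⟨?_, ?_⟩
    · have h := order_E8 (F := K)
      rw [one_mul] at h
      rw [h, show chevE8.nroots / 2 = 120 by decide +kernel]
      simp [mul_assoc]
    · have h := card_diag_E8 (F := K)
      rwa [one_mul] at h
  form := refl8_form
  good A hA hΦ _ := by
    refine ⟨fun s r hr hdr hdvd => ?_, ⟨⟨0, by decide +kernel⟩, unit_det A hA hΦ _⟩⟩
    exact hr.ne_one (Nat.isUnit_iff.1 (Int.ofNat_isUnit.1 (isUnit_of_dvd_unit hdvd (unit_det A hA hΦ s))))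

theorem main {F : Type u} [Field F] [Finite F] :
    ∃ H : Subgroup ↥(chevE8.group F), IsCyclic ↥H ∧
      (Nat.card ↥H : ℤ) = (Nat.card F : ℤ) ^ 8 + (Nat.card F : ℤ) ^ 7 - (Nat.card F : ℤ) ^ 5 -
        (Nat.card F : ℤ) ^ 4 - (Nat.card F : ℤ) ^ 3 + (Nat.card F : ℤ) + 1 ∧
      Subgroup.centralizer (H : Set ↥(chevE8.group F)) = H := by
  obtain ⟨H, h1, h2, h3⟩ := exists_cyclic DataE8.facts data alcove (F := F)
    (by simp [CfsgLib.Recognition.Zsigmondy.exceptions])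
    (by
      have h := order_E8 (F := F)
      rw [one_mul] at h
      rw [h, show chevE8.nroots / 2 = 120 by decide +kernel]
      simp [mul_assoc])
  refine ⟨H, h1, ?_, h3⟩
  simpa [cyclotomic_thirty] using h2

end CfsgLib.Known.ChevSinger.E8
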