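import Cfsg.Agent.Lib.Known.ChevSinger.Torus
import Cfsg.Agent.Lib.Known.ChevSinger.Common

/-!
A self-centralising cyclic torus of order `q ^ 4 + 1` of `F₄(q)`.
-/

set_option autoImplicit false
set_option maxRecDepth 20000

namespace CfsgLib.Known.ChevSinger.F4

open Cfsg.Lie CfsgLib.Chev Polynomial Matrix

universe u

/-- The scalar product. -/
def form : Matrix (Fin 4) (Fin 4) ℤ := !![2, -1, 0, 0; -1, 2, -2, 0; 0, -2, 4, -2; 0, 0, -2, 4]
/-- The adjugate of the scalar product. -/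
def formAdj : Matrix (Fin 4) (Fin 4) ℤ := !![8, 12, 8, 4; 12, 24, 16, 8; 8, 16, 12, 6; 4, 8, 6, 4]
/-- The inverse of the Cartan matrix. -/
def cartanInv : Matrix (Fin 4) (Fin 4) ℤ := !![2, 3, 2, 1; 3, 6, 4, 2; 4, 8, 6, 3; 2, 4, 3, 2]

theorem form_symm : formᵀ = form := by decide

theorem form_nonneg (w : Fin 4 → ℤ) : 0 ≤ w ⬝ᵥ form *ᵥ w := by
  simp only [form, dotProduct, Matrix.mulVec, Fin.sum_univ_four, Matrix.of_apply, Matrix.cons_val]
  nlinarith [sq_nonneg (2 * w 0 - w 1), sq_nonneg (3 * w 1 - 4 * w 2),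
    sq_nonneg (2 * w 2 - 3 * w 3), sq_nonneg (w 3)]

theorem form_pos (w : Fin 4 → ℤ) (hw : w ≠ 0) : 0 < w ⬝ᵥ form *ᵥ w := by
  refine lt_of_le_of_ne (form_nonneg w) fun h => hw ?_
  simp only [form, dotProduct, Matrix.mulVec, Fin.sum_univ_four, Matrix.of_apply, Matrix.cons_val] at h
  have e : 3 * (2 * w 0 - w 1) ^ 2 + (3 * w 1 - 4 * w 2) ^ 2 + 2 * (2 * w 2 - 3 * w 3) ^ 2 +
      6 * w 3 ^ 2 = 0 := by linear_combination (-6 : ℤ) * h
  have a := sq_nonneg (2 * w 0 - w 1)
  have b := sq_nonneg (3 * w 1 - 4 * w 2)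
  have c := sq_nonneg (2 * w 2 - 3 * w 3)
  have d := sq_nonneg (w 3)
  have h3 : w 3 = 0 := pow_eq_zero_iff two_ne_zero |>.1 (by linarith)
  have h2 : 2 * w 2 - 3 * w 3 = 0 := pow_eq_zero_iff two_ne_zero |>.1 (by linarith)
  have h1 : 3 * w 1 - 4 * w 2 = 0 := pow_eq_zero_iff two_ne_zero |>.1 (by linarith)
  have h0 : 2 * w 0 - w 1 = 0 := pow_eq_zero_iff two_ne_zero |>.1 (by linarith)
  funext i
  fin_cases i <;> simp <;> omega

theorem formAdj_nonneg (w : Fin 4 → ℤ) : 0 ≤ w ⬝ᵥ formAdj *ᵥ w := by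
  simp only [formAdj, dotProduct, Matrix.mulVec, Fin.sum_univ_four, Matrix.of_apply, Matrix.cons_val]
  nlinarith [sq_nonneg (2 * w 0 + 3 * w 1 + 2 * w 2 + w 3), sq_nonneg (3 * w 1 + 2 * w 2 + w 3),
    sq_nonneg (2 * w 2 + w 3), sq_nonneg (w 3)]

/-- The coefficient vector of a root. -/
def cv (s : Fin chevF4.nroots) : Fin 4 → ℤ := coV chevF4 DataF4.co s.val

/-- A fundamental reflection. -/
def refl4 (i : Fin 4) : Matrix (Fin 4) (Fin 4) ℤ := reflM chevF4 i

theorem refl4_form : ∀ i : Fin 4, (refl4 i)ᵀ * form * refl4 i = form := by decide +kernel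

theorem cv_ne_zero (s : Fin chevF4.nroots) : cv s ≠ 0 := coV_ne_zero DataF4.facts s.isLt

theorem root_norm : ∀ s : Fin chevF4.nroots,
    cv s ⬝ᵥ form *ᵥ cv s = 2 ∨
    cv s ⬝ᵥ form *ᵥ cv s = 4 := by decide +kernel

theorem alcove : AlcoveData chevF4 DataF4.co form formAdj 4 47 where
  symm := (by decide : formAdjᵀ = formAdj)
  nonneg := formAdj_nonneg
  pos_norm := fun s => show (0 : ℤ) < cv s ⬝ᵥ form *ᵥ cv s by
    rcases root_norm s with h | h <;> rw [h] <;> norm_num
  coroot := by decide +kernel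
  prE_self := by decide +kernel
  cc_pos := by norm_num
  theta_lt := by decide +kernel
  theta_co := by decide +kernel

theorem cyclotomic_eight : cyclotomic 8 ℤ = X ^ 4 + 1 := by
  have h := cyclotomic_prime_pow_eq_geom_sum (R := ℤ) (n := 2) Nat.prime_two
  simp only [Finset.sum_range_succ, Finset.sum_range_zero] at h
  rw [show (8 : ℕ) = 2 ^ (2 + 1) from rfl, h]
  ring

theorem gseq_rel {A : Matrix (Fin 4) (Fin 4) ℤ} (hA : Aᵀ * form * A = form)
    (hΦ : aeval A (cyclotomic 8 ℤ) = 0) (v : Fin 4 → ℤ) :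
    gseq form A v 2 = 0 ∧ gseq form A v 3 = -gseq form A v 1 := by
  rw [cyclotomic_eight] at hΦ
  have hdeg : ((X : ℤ[X]) ^ 4 + 1).natDegree ≤ 4 := by compute_degree
  have h2 := gseq_recurrence form_symm hA v hdeg hΦ 2
  have h1 := gseq_recurrence form_symm hA v hdeg hΦ 1
  simp [Finset.sum_range_succ, coeff_X_pow, coeff_one] at h1 h2
  constructor <;> linarith

theorem det_gram_four {A : Matrix (Fin 4) (Fin 4) ℤ} (hA : Aᵀ * form * A = form)
    (hΦ : aeval A (cyclotomic 8 ℤ) = 0) (v : Fin 4 → ℤ) :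
    (orbitMat A v).det ^ 2 * 4 = (gseq form A v 0 ^ 2 - 2 * gseq form A v 1 ^ 2) ^ 2 := by
  obtain ⟨h2, h3⟩ := gseq_rel hA hΦ v
  have h := det_gram form_symm hA v
  rw [show form.det = 4 by decide +kernel] at h
  rw [h]
  simp [Matrix.det_succ_row_zero, Fin.sum_univ_succ, gramOf, Fin.succAbove, h2, h3]
  ring

theorem not_one_sq {A : Matrix (Fin 4) (Fin 4) ℤ} (hΦ : aeval A (cyclotomic 8 ℤ) = 0)
    (h : A * A = -1) : False := by
  rw [cyclotomic_eight, map_add, map_pow, map_one, aeval_X] at hΦ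
  rw [show A ^ 4 = (A * A) * (A * A) by simp [pow_succ, mul_assoc], h] at hΦ
  have := congrFun (congrFun hΦ 0) 0
  simp at this

/-- Squares of short roots span the quadratic forms. -/
theorem quad_eq_zero {S : Matrix (Fin 4) (Fin 4) ℤ} (hS : Sᵀ = S)
    (h : ∀ v ∈ [![1, 0, 0, 0], ![0, 1, 0, 0], ![0, 1, 1, 0], ![1, 1, 0, 0], ![0, 1, 1, 1],
      ![1, 1, 1, 0], ![1, 1, 1, 1], ![1, 2, 1, 0], ![1, 2, 1, 1], ![1, 2, 2, 1], ![1, 3, 2, 1],
      ![2, 3, 2, 1]], v ⬝ᵥ S *ᵥ v = (0 : ℤ)) : S = 0 := by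
  simp only [List.mem_cons, List.not_mem_nil, or_false, forall_eq_or_imp, forall_eq, dotProduct,
    Matrix.mulVec, Fin.sum_univ_four, Matrix.cons_val] at h
  have e : ∀ i j, S i j = S j i := fun i j => congrFun (congrFun hS j) i
  have := e 1 0; have := e 2 0; have := e 3 0; have := e 2 1; have := e 3 1; have := e 3 2
  obtain ⟨a, b, c, d, e1, f, g, k, l, m, n, o⟩ := h
  ext i j
  fin_cases i <;> fin_cases j <;> simp <;> linarith

theorem short_mem : ∀ v ∈ [![(1 : ℤ), 0, 0, 0], ![0, 1, 0, 0], ![0, 1, 1, 0], ![1, 1, 0, 0],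
    ![0, 1, 1, 1], ![1, 1, 1, 0], ![1, 1, 1, 1], ![1, 2, 1, 0], ![1, 2, 1, 1], ![1, 2, 2, 1],
    ![1, 3, 2, 1], ![2, 3, 2, 1]], ∃ s : Fin chevF4.nroots, cv s = v ∧
      cv s ⬝ᵥ form *ᵥ cv s = 2 := by decide +kernel

theorem good (A : Matrix (Fin 4) (Fin 4) ℤ) (hA : Aᵀ * form * A = form)
    (hΦ : aeval A (cyclotomic 8 ℤ) = 0) :
    (∀ s : Fin chevF4.nroots, ∀ r : ℕ, r.Prime → 8 ∣ r - 1 →
      ¬ (r : ℤ) ∣ (orbitMat A (cv s)).det) ∧
    ∃ s : Fin chevF4.nroots, IsUnit (orbitMat A (cv s)).det := by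
  have htot : Nat.totient 8 = 4 := by decide
  have hne : ∀ s : Fin chevF4.nroots, (orbitMat A (cv s)).det ≠ 0 :=
    fun s => det_orbitMat_ne_zero A (by norm_num) htot hΦ (cv_ne_zero s)
  have h0 : ∀ v, gseq form A v 0 = v ⬝ᵥ form *ᵥ v := fun v => by simp [gseq]
  refine ⟨fun s r hr hdr hdvd => ?_, ?_⟩
  · set v := cv s
    set x := (orbitMat A v).det with hx
    have hg := det_gram_four hA hΦ v
    obtain ⟨hb1, hb2⟩ := gseq_bound form_symm hA form_nonneg v 1
    have hr17 : 17 ≤ r := by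
      obtain ⟨k, hk⟩ := hdr
      have := hr.two_le
      rcases k with _ | _ | k
      · omega
      · rw [show r = 9 by omega] at hr; norm_num at hr
      · omega
    have h17 : (17 : ℤ) ≤ |x| := by
      have := Int.le_of_dvd (abs_pos.2 (hne s)) ((dvd_abs _ _).2 hdvd)
      linarith [show (17 : ℤ) ≤ r by exact_mod_cast hr17]
    have hx2 : 289 ≤ x ^ 2 := by nlinarith [sq_abs x]
    rcases root_norm s with h | h <;> rw [← h0] at h <;> rw [h] at hg hb1 hb2 <;>
      interval_cases hb : gseq form A v 1 <;> linarith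
  · have hb : ∀ s : Fin chevF4.nroots,
        cv s ⬝ᵥ form *ᵥ cv s = 2 →
        gseq form A (cv s) 1 = 0 ∨
          IsUnit (orbitMat A (cv s)).det := by
      intro s hs
      have hg := det_gram_four hA hΦ (cv s)
      obtain ⟨h2, h3⟩ := gseq_rel hA hΦ (cv s)
      obtain ⟨hb1, hb2⟩ := gseq_bound form_symm hA form_nonneg (cv s) 1
      rw [← h0] at hs
      rw [hs] at hg hb1 hb2
      have hpos := fun c : Fin 4 → ℤ => gram_pos form_symm hA form_pos (hne s) (c := c)
      interval_cases hb : gseq form A (cv s) 1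
      · have := hpos ![1, 1, 0, 0] (by decide)
        simp [dotProduct, Matrix.mulVec, Fin.sum_univ_four, gramOf, hs, hb] at this
      · right
        rw [Int.isUnit_iff, ← sq_eq_one_iff]
        linarith
      · exact Or.inl rfl
      · right
        rw [Int.isUnit_iff, ← sq_eq_one_iff]
        linarith
      · have := hpos ![1, -1, 0, 0] (by decide)
        simp [dotProduct, Matrix.mulVec, Fin.sum_univ_four, gramOf, hs, hb] at this
    by_contra hcon
    push Not at hcon
    have hS : form * A + (form * A)ᵀ = 0 := by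
      refine quad_eq_zero (by rw [Matrix.transpose_add, Matrix.transpose_transpose, add_comm]) ?_
      intro v hv
      obtain ⟨s, rfl, hs⟩ := short_mem v hv
      have h1 := (hb s hs).resolve_right (hcon s)
      rw [gseq, pow_one] at h1
      rw [Matrix.add_mulVec, dotProduct_add, Matrix.mulVec_transpose,
        dotProduct_comm (cv s) (cv s ᵥ* (form * A)), ← Matrix.dotProduct_mulVec,
        ← Matrix.mulVec_mulVec, h1, add_zero]
    have h1 : form * (A * A + 1) = 0 := by
      rw [Matrix.transpose_mul, form_symm] at hS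
      have h2 := congrArg (· * A) hS
      simp only [Matrix.add_mul, Matrix.zero_mul, hA] at h2
      rw [mul_add, mul_one, ← mul_assoc]
      exact h2
    have h3 := congrArg (formAdj * ·) h1
    simp only [← mul_assoc, Matrix.mul_zero] at h3
    rw [show formAdj * form = (4 : ℤ) • (1 : Matrix (Fin 4) (Fin 4) ℤ) by decide +kernel,
      Matrix.smul_mul, Matrix.one_mul, smul_eq_zero] at h3
    exact not_one_sq hΦ (eq_neg_of_add_eq_zero_left (h3.resolve_left (by norm_num)))

theorem data : SingerData chevF4 DataF4.co 8 [2, 6, 8, 12] cartanInv form where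
  comm := good_F4.comm
  three := by norm_num
  totient := (by decide : Nat.totient 8 = 4)
  inv := by decide +kernel
  len := rfl
  mem := by simp
  small r hr hdr := by
    obtain ⟨k, hk⟩ := hdr
    have := hr.two_le
    have h17 : 17 ≤ r := by
      rcases k with _ | _ | k
      · omega
      · rw [show r = 9 by omega] at hr; norm_num at hr
      · omega
    refine ⟨show 4 + 1 < r by omega, fun m hm hd => ?_⟩
    simp only [List.mem_cons, List.not_mem_nil, or_false] at hm
    have := Nat.le_of_dvd (by omega) hd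
    omega
  order K _ _ := by
    refine ⟨?_, ?_⟩
    · have h := order_F4 (F := K)
      rw [one_mul] at h
      rw [h, show chevF4.nroots / 2 = 24 by decide +kernel]
      simp [mul_assoc]
    · have h := card_diag_F4 (F := K)
      rwa [one_mul] at h
  form := refl4_form
  good A hA hΦ _ := good A hA hΦ

theorem main {F : Type u} [Field F] [Finite F] :
    ∃ H : Subgroup ↥(chevF4.group F), IsCyclic ↥H ∧ Nat.card ↥H = Nat.card F ^ 4 + 1 ∧
      Subgroup.centralizer (H : Set ↥(chevF4.group F)) = H := by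
  obtain ⟨H, h1, h2, h3⟩ := exists_cyclic DataF4.facts data alcove (F := F)
    (by simp [CfsgLib.Recognition.Zsigmondy.exceptions])
    (by
      have h := order_F4 (F := F)
      rw [one_mul] at h
      rw [h, show chevF4.nroots / 2 = 24 by decide +kernel]
      simp [mul_assoc])
  refine ⟨H, h1, ?_, h3⟩
  simp [cyclotomic_eight] at h2
  exact_mod_cast h2

end CfsgLib.Known.ChevSinger.F4
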