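import Cfsg.Agent.Lib.Known.ChevFixedPoints
import Cfsg.Agent.Lib.Recognition.Zsigmondy
import Cfsg.Agent.Lib.Known.G2Singer.Main
import Cfsg.Agent.Lib.Known.ChevSinger.Linear
import Cfsg.Agent.Lib.Known.ChevSinger.Bruhat

/-!
Self-centralising cyclic tori of Chevalley groups attached to a Weyl element whose minimal
polynomial is a cyclotomic polynomial.
-/

set_option autoImplicit false

namespace CfsgLib.Known.ChevSinger

open Cfsg.Lie CfsgLib.Chev Polynomial Matrix

variable {D : ChevalleyDatum} {co : ℕ → ℕ → ℤ}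

/-- The hypotheses on a datum for a torus of order the `d`-th cyclotomic value. -/
structure SingerData (D : ChevalleyDatum) (co : ℕ → ℕ → ℤ) (d : ℕ) (degs : List ℕ)
    (Ci B : Matrix (Fin D.rank) (Fin D.rank) ℤ) : Prop where
  comm : CommF.{0} D
  three : 3 ≤ d
  totient : d.totient = D.rank
  inv : cartanMat D * Ci = 1
  len : degs.length = D.rank
  mem : d ∈ degs
  small : ∀ r : ℕ, r.Prime → d ∣ r - 1 → D.rank + 1 < r ∧ ∀ k ∈ degs, ¬ r ∣ k
  order : ∀ (K : Type) [Field K] [Finite K],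
    Nat.card ↥(D.group K) =
        Nat.card K ^ (D.nroots / 2) * (degs.map fun k => Nat.card K ^ k - 1).prod ∧
      Nat.card ↥(D.diagonalSubgroup K) = (Nat.card K - 1) ^ D.rank
  form : ∀ i, (reflM D i)ᵀ * B * reflM D i = B
  good : ∀ A : Matrix (Fin D.rank) (Fin D.rank) ℤ, Aᵀ * B * A = B →
    aeval A (cyclotomic d ℤ) = 0 →
    (∀ s : Fin D.nroots, ∃ t : Fin D.nroots, A *ᵥ coV D co s.val = coV D co t.val) →
    (∀ s : Fin D.nroots, ∀ r : ℕ, r.Prime → d ∣ r - 1 →
      ¬ (r : ℤ) ∣ (orbitMat A (coV D co s.val)).det) ∧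
    ∃ s : Fin D.nroots, IsUnit (orbitMat A (coV D co s.val)).det

/-- A primitive prime of a cyclotomic value. -/
theorem exists_primitive {d q : ℕ} (hd : 3 ≤ d) (hq : 2 ≤ q)
    (he : (d, q) ∉ CfsgLib.Recognition.Zsigmondy.exceptions) :
    ∃ r : ℕ, r.Prime ∧ r ∣ q ^ d - 1 ∧ orderOf (q : ZMod r) = d ∧ d ∣ r - 1 := by
  obtain ⟨r, hr, hrd, hri, -⟩ := CfsgLib.Recognition.Zsigmondy.exists_large_primitive hd hq he
  haveI : Fact r.Prime := ⟨hr⟩
  have hcast : ∀ i, ((q : ZMod r) ^ i = 1) ↔ r ∣ q ^ i - 1 := fun i => by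
    rw [← ZMod.natCast_eq_zero_iff, Nat.cast_sub (Nat.one_le_pow _ _ (by omega)), sub_eq_zero]
    simp
  have ho : orderOf (q : ZMod r) = d :=
    (orderOf_eq_iff (by omega)).2 ⟨(hcast d).2 hrd, fun i hi h0 h => hri i h0 hi ((hcast i).1 h)⟩
  refine ⟨r, hr, hrd, ho, ?_⟩
  rw [← ho]
  refine ZMod.orderOf_dvd_card_sub_one fun h0 => ?_
  have := (hcast d).2 hrd
  rw [h0, zero_pow (by omega)] at this
  exact zero_ne_one this

/-- A homomorphism killing a full orbit is zero. -/
theorem hom_eq_zero_of_orbit {n : ℕ} {M : Type*} [AddCommGroup M]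
    (A : Matrix (Fin n) (Fin n) ℤ) (q : ℤ) (L : (Fin n → ℤ) →+ M)
    (hL : ∀ v, L (A *ᵥ v) = q • L v) {v0 : Fin n → ℤ} (h0 : L v0 = 0) :
    ∀ v, (orbitMat A v0).det • L v = 0 := by
  intro v
  have h1 : ∀ i : ℕ, L (A ^ i *ᵥ v0) = 0 := by
    intro i
    induction i with
    | zero => simpa using h0
    | succ i ih => rw [pow_succ', ← Matrix.mulVec_mulVec, hL, ih, smul_zero]
  have h2 : ∀ c, L (orbitMat A v0 *ᵥ c) = 0 := fun c => by
    rw [orbitMat_mulVec, map_sum]
    exact Finset.sum_eq_zero fun i _ => by rw [map_zsmul, h1, smul_zero]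
  rw [← map_zsmul, show (orbitMat A v0).det • v = orbitMat A v0 *ᵥ ((orbitMat A v0).adjugate *ᵥ v) by
    rw [Matrix.mulVec_mulVec, Matrix.mul_adjugate, Matrix.smul_mulVec, Matrix.one_mulVec]]
  exact h2 _

/-- A homomorphism with prescribed value at a point with a unimodular orbit. -/
theorem exists_hom {n : ℕ} (A : Matrix (Fin n) (Fin n) ℤ) {P : ℤ[X]} (hP : P.Monic)
    (hn : P.natDegree = n) (hn0 : 0 < n) (hA : aeval A P = 0) {v0 : Fin n → ℤ}
    (hdet : IsUnit (orbitMat A v0).det) (q : ℤ) {M : Type*} [AddCommGroup M] {a : M}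
    (ha : P.eval q • a = 0) :
    ∃ L : (Fin n → ℤ) →+ M, L v0 = a ∧ ∀ v, L (A *ᵥ v) = q • L v := by
  set T := (orbitMat A v0)⁻¹ with hT
  let f : (Fin n → ℤ) →+ ℤ :=
    { toFun := fun v => ∑ i, (T *ᵥ v) i * q ^ (i : ℕ)
      map_zero' := by simp
      map_add' := fun v w => by simp [Matrix.mulVec_add, add_mul, Finset.sum_add_distrib] }
  have hgen : ∀ g : ℤ[X], P.eval q ∣ f (aeval A g *ᵥ v0) - g.eval q := by
    intro g
    have hP1 : P ≠ 1 := fun e => by rw [e, natDegree_one] at hn; omega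
    have hlt : (g %ₘ P).natDegree < n := hn ▸ Polynomial.natDegree_modByMonic_lt g hP hP1
    have e1 : aeval A g = aeval A (g %ₘ P) := by
      conv_lhs => rw [← Polynomial.modByMonic_add_div g P]
      rw [map_add, map_mul, hA, zero_mul, add_zero]
    have e2 : g.eval q = (g %ₘ P).eval q + P.eval q * (g /ₘ P).eval q := by
      conv_lhs => rw [← Polynomial.modByMonic_add_div g P]
      rw [eval_add, eval_mul]
    have e3 : aeval A (g %ₘ P) *ᵥ v0 = orbitMat A v0 *ᵥ fun i : Fin n => (g %ₘ P).coeff i := by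
      rw [orbitMat_mulVec, Polynomial.aeval_eq_sum_range' hlt, Matrix.sum_mulVec, Finset.sum_range]
      exact Finset.sum_congr rfl fun i _ => Matrix.smul_mulVec _ _ _
    have e4 : f (aeval A g *ᵥ v0) = (g %ₘ P).eval q := by
      rw [e1, e3, Polynomial.eval_eq_sum_range' hlt, Finset.sum_range]
      show ∑ i, (T *ᵥ (orbitMat A v0 *ᵥ _)) i * q ^ (i : ℕ) = _
      rw [Matrix.mulVec_mulVec, hT, Matrix.nonsing_inv_mul _ hdet, Matrix.one_mulVec]
    rw [e4, e2]
    exact ⟨-(g /ₘ P).eval q, by ring⟩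
  have hker : ∀ z : ℤ, P.eval q ∣ z → z • a = 0 := by
    rintro z ⟨w, rfl⟩
    rw [mul_comm, mul_smul, ha, smul_zero]
  refine ⟨(zmultiplesHom M a).comp f, ?_, fun v => ?_⟩
  · show f v0 • a = a
    have h1 := hgen 1
    rw [map_one, Matrix.one_mulVec, eval_one] at h1
    calc f v0 • a = (f v0 - 1) • a + (1 : ℤ) • a := by rw [← add_smul, sub_add_cancel]
      _ = a := by rw [hker _ h1, zero_add, one_smul]
  · show f (A *ᵥ v) • a = q • (f v • a)
    let g : ℤ[X] := ∑ i : Fin n, Polynomial.monomial (i : ℕ) ((T *ᵥ v) i)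
    have hv : aeval A g *ᵥ v0 = v := by
      simp only [g, map_sum, aeval_monomial, ← Algebra.smul_def, Matrix.sum_mulVec, Matrix.smul_mulVec]
      rw [← orbitMat_mulVec, Matrix.mulVec_mulVec, hT, Matrix.mul_nonsing_inv _ hdet, Matrix.one_mulVec]
    have h1 := hgen g
    have h2 := hgen (X * g)
    rw [map_mul, aeval_X, ← Matrix.mulVec_mulVec, hv, eval_mul, eval_X] at h2
    rw [hv] at h1
    rw [← mul_smul, ← sub_eq_zero, ← sub_smul]
    refine hker _ ?_
    have e : f (A *ᵥ v) - q * f v = (f (A *ᵥ v) - q * g.eval q) - q * (f v - g.eval q) := by ring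
    rw [e]
    exact dvd_sub h2 (h1.mul_left q)

/-- The centraliser of an element of primitive prime order is cyclic of order the `d`-th
cyclotomic value. -/
theorem centralizer_of_primitive (hF : Facts D co) {d : ℕ} {degs : List ℕ}
    {Ci B : Matrix (Fin D.rank) (Fin D.rank) ℤ} (S : SingerData D co d degs Ci B)
    {B' Bi : Matrix (Fin D.rank) (Fin D.rank) ℤ} {cc : ℤ} {θ : ℕ}
    (hA' : AlcoveData D co B' Bi cc θ) {F : Type*} [Field F] [Finite F]
    {r : ℕ} (hr : r.Prime) (hrd : r ∣ Nat.card F ^ d - 1)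
    (ho : orderOf (Nat.card F : ZMod r) = d) (hdr : d ∣ r - 1)
    (hGF : Nat.card ↥(D.group F) =
      Nat.card F ^ (D.nroots / 2) * (degs.map fun k => Nat.card F ^ k - 1).prod)
    (h : ↥(D.group F)) (hh : orderOf h = r) :
    IsCyclic ↥(Subgroup.centralizer ((Subgroup.zpowers h : Subgroup ↥(D.group F)) : Set ↥(D.group F))) ∧
      (Nat.card ↥(Subgroup.centralizer
        ((Subgroup.zpowers h : Subgroup ↥(D.group F)) : Set ↥(D.group F))) : ℤ) =
          (cyclotomic d ℤ).eval (Nat.card F : ℤ) := by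
  classical
  haveI := Fintype.ofFinite F
  obtain ⟨q, hq⟩ : ∃ q, q = Nat.card F := ⟨_, rfl⟩
  rw [← hq] at hrd ho hGF ⊢
  have hq2 : 2 ≤ q := hq ▸ Finite.one_lt_card
  haveI : Fact r.Prime := ⟨hr⟩
  obtain ⟨hrn, hrk⟩ := S.small r hr hdr
  haveI : Finite ↥(D.group F) := Nat.finite_of_card_ne_zero (by
    rw [hGF]
    refine mul_ne_zero (pow_ne_zero _ (by omega)) (List.prod_ne_zero fun h0 => ?_)
    obtain ⟨k, hk, hk0⟩ := List.mem_map.1 h0
    rcases Nat.eq_zero_or_pos k with rfl | hk'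
    · exact hrk 0 hk (dvd_zero r)
    · have := Nat.one_lt_pow hk'.ne' (by omega : 1 < q)
      omega)
  -- the big field
  obtain ⟨p, hp⟩ := CharP.exists F
  obtain ⟨f, hpp, hf⟩ := FiniteField.card F p
  haveI : Fact p.Prime := ⟨hpp⟩
  haveI : NeZero d := ⟨by have := S.three; omega⟩
  have hqf : q = p ^ (f : ℕ) := by rw [hq, Nat.card_eq_fintype_card, hf]
  let K := FiniteField.Extension F p d
  let ι : F →+* K := algebraMap F K
  haveI : CharP K p := charP_of_injective_ringHom ι.injective p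
  let σ : K →+* K := iterateFrobenius K p f
  have hσ : ∀ x, σ x = x ^ q := fun x => by rw [hqf]; exact iterateFrobenius_def p f x
  have hσu : ∀ x : Kˣ, Units.map σ.toMonoidHom x = x ^ q := fun x =>
    Units.ext (by rw [Units.val_pow_eq_pow_val]; exact hσ x)
  have hσι : σ.comp ι = ι := RingHom.ext fun x => by
    rw [RingHom.comp_apply, hσ, ← map_pow, hq, Nat.card_eq_fintype_card, FiniteField.pow_card]
  have hK : Nat.card K = q ^ d := by rw [FiniteField.natCard_extension, hq]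
  obtain ⟨hGK, hHK⟩ := S.order K
  have hC := S.comm
  -- diagonalise `h`
  let i₀ : ↥(D.group F) →* GL D.Idx K := (extG D ι).comp (D.group F).subtype
  have hi₀ : Function.Injective i₀ := (extG_injective ι).comp Subtype.val_injective
  have hi₀G : ∀ x, i₀ x ∈ D.group K := fun x => extG_mem_group ι hF x.2
  have hi₀σ : ∀ x, extG D σ (i₀ x) = i₀ x := fun x => by
    show extG D σ (extG D ι _) = extG D ι _
    rw [extG_comp, hσι]
  obtain ⟨P, hP, hPd⟩ := exists_conj_diag hF S.len hGK hHK (r := r) (by rw [hK]; exact hrd) hrk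
    (hi₀G h) (by rw [← map_pow, ← hh, pow_orderOf_eq_one, map_one])
  obtain ⟨c0, hc0⟩ := hF.mem_diagonal_iff.1 hPd
  let cj : ↥(D.group F) →* GL D.Idx K := (MulAut.conj P).toMonoidHom.comp i₀
  have hcj : Function.Injective cj := (MulAut.conj P).injective.comp hi₀
  have hcjG : ∀ x, cj x ∈ D.group K := fun x =>
    Subgroup.mul_mem _ (Subgroup.mul_mem _ hP (hi₀G x)) (Subgroup.inv_mem _ hP)
  set M : GL D.Idx K := P * (extG D σ P)⁻¹ with hM
  have hMG : M ∈ D.group K :=
    Subgroup.mul_mem _ hP (Subgroup.inv_mem _ (extG_mem_group σ hF hP))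
  have key : ∀ x, cj x * M = M * extG D σ (cj x) := by
    intro x
    show P * i₀ x * P⁻¹ * M = M * extG D σ (P * i₀ x * P⁻¹)
    rw [map_mul, map_mul, map_inv, hi₀σ, hM]
    group
  have hc0' : cj h = hT D c0 := hc0
  -- the Weyl element
  have hkeyc : ∀ c : ℕ → Kˣ, ∀ x, cj x = hT D c →
      hT D c * M = M * hT D (fun i => Units.map σ.toMonoidHom (c i)) := fun c x hx => by
    rw [← extG_hT, ← hx]
    exact key x
  obtain ⟨l, hl, hlmono⟩ := exists_intertwine hF hC hMG (hkeyc c0 h hc0')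
  set A := wM D l with hAdef
  have homeq : ∀ c : ℕ → Kˣ,
      (∀ s : Fin D.nroots, chiT D c s.val ^ q = chiT D c (sW D l s).val) →
      ∀ v, torHom D c (A *ᵥ v) = (q : ℤ) • torHom D c v := by
    intro c hc
    let L1 : (Fin D.rank → ℤ) →+ Additive Kˣ :=
      { toFun := fun v => torHom D c (A *ᵥ v)
        map_zero' := by simp
        map_add' := fun v w => by rw [Matrix.mulVec_add, map_add] }
    have e : L1 = (q : ℤ) • torHom D c := hom_ext_roots hF fun s => by
      show torHom D c (A *ᵥ coV D co s.val) = (q : ℤ) • torHom D c (coV D co s.val)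
      rw [hAdef, ← coV_sW hF, torHom_coV hF c (sW D l s).isLt, torHom_coV hF c s.isLt, ← hc s,
        ofMul_pow, natCast_zsmul]
    exact fun v => DFunLike.congr_fun e v
  have hA0 := homeq c0 fun s => by rw [← hl s, chiT_map, hσu]
  have hc0r : ∀ s < D.nroots, chiT D c0 s ^ r = 1 := fun s hs =>
    chiT_pow_eq_one hF (by rw [← hc0', ← map_pow, ← hh, pow_orderOf_eq_one, map_one]) hs
  have hrL : ∀ v, (r : ℤ) • torHom D c0 v = 0 := fun v => by
    have e : (r : ℤ) • torHom D c0 = 0 := hom_ext_roots hF fun s => by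
      show (r : ℤ) • torHom D c0 (coV D co s.val) = 0
      rw [torHom_coV hF c0 s.isLt, natCast_zsmul, ← ofMul_pow, hc0r _ s.isLt, ofMul_one]
    exact DFunLike.congr_fun e v
  have hne : ∃ v, torHom D c0 v ≠ 0 := by
    by_contra hcon
    push Not at hcon
    have e : hT D c0 = hT D (fun _ => (1 : Kˣ)) := hT_ext fun s hs => by
      have h1 := hcon (coV D co s)
      rw [torHom_coV hF c0 hs, ofMul_eq_zero] at h1
      rw [h1, chiT_one]
    rw [hF.hT_one, ← hc0', ← map_one cj] at e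
    rw [hcj e, orderOf_one] at hh
    exact hr.ne_one hh.symm
  obtain ⟨m, hm, hAm⟩ := exists_pow_eq_one hF l
  have hΦ : aeval A (cyclotomic d ℤ) = 0 :=
    aeval_cyclotomic_eq_zero A hm hAm hr hrn ho S.totient (by have := S.three; omega)
      (torHom D c0) hA0 hrL hne
  obtain ⟨hdet, α, hα⟩ := S.good A (wM_form S.form l) hΦ fun s => ⟨sW D l s, (coV_sW hF l s).symm⟩
  have hreg : ∀ s < D.nroots, chiT D c0 s ≠ 1 := by
    intro s hs h1
    obtain ⟨v, hv⟩ := hne
    refine hv (eq_zero_of_coprime_zsmul hr (hrL v) (hdet ⟨s, hs⟩ r hr hdr) ?_)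
    exact hom_eq_zero_of_orbit A _ (torHom D c0) hA0
      (by rw [torHom_coV hF c0 hs, h1, ofMul_one]) v
  obtain ⟨hMmono, hMact⟩ := hlmono hreg fun s hs h1 => by
    have h2 := hl ⟨s, hs⟩
    exact hreg _ (sW D l ⟨s, hs⟩).isLt (h2.symm.trans h1)
  -- coordinates of the regular element
  obtain ⟨v, hv⟩ := hne
  set z : Kˣ := Additive.toMul (torHom D c0 v) with hz
  have hzr : z ^ r = 1 := by
    have := hrL v
    rwa [natCast_zsmul] at this
  have hz1 : IsPrimitiveRoot z r := by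
    rw [IsPrimitiveRoot.iff_orderOf]
    exact orderOf_eq_prime hzr hv
  haveI : NeZero r := ⟨hr.ne_zero⟩
  have hk : ∀ w, ∃ k : ℤ, torHom D c0 w = k • Additive.ofMul z := by
    intro w
    have h1 : Additive.toMul (torHom D c0 w) ∈ rootsOfUnity r K := by
      rw [mem_rootsOfUnity]
      have := hrL w
      rwa [natCast_zsmul] at this
    rw [← hz1.zpowers_eq, Subgroup.mem_zpowers_iff] at h1
    obtain ⟨k, hk⟩ := h1
    exact ⟨k, by rw [← ofMul_zpow, hk, ofMul_toMul]⟩
  choose kk hkk using hk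
  set k₀ : Fin D.rank → ℤ := fun i => kk (Pi.single i 1) with hk₀
  have hlin : ∀ w, torHom D c0 w = (k₀ ⬝ᵥ w) • Additive.ofMul z := by
    intro w
    rw [pi_eq_sum_univ w, map_sum, dotProduct_sum, ← sum_zsmul_const]
    refine Finset.sum_congr rfl fun i _ => ?_
    have e : (fun j => if i = j then (1 : ℤ) else 0) = Pi.single i 1 := by
      funext j; simp [Pi.single_apply, eq_comm]
    rw [e, map_zsmul, hkk, dotProduct_smul, dotProduct_single, mul_one, smul_eq_mul, mul_smul]
  have hdvd : ∀ j : ℤ, j • Additive.ofMul z = 0 ↔ (r : ℤ) ∣ j := fun j => by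
    rw [← ofMul_zpow, ofMul_eq_zero]
    exact hz1.zpow_eq_one_iff_dvd j
  -- the centraliser
  set C : Subgroup ↥(D.group F) :=
    Subgroup.centralizer ((Subgroup.zpowers h : Subgroup ↥(D.group F)) : Set ↥(D.group F)) with hCdef
  have hdiag : ∀ x : C, ∃ c : ℕ → Kˣ, cj x = hT D c := by
    intro x
    have hcomm : hT D c0 * cj x = cj x * hT D c0 := by
      rw [← hc0', ← map_mul, ← map_mul,
        Subgroup.mem_centralizer_iff.1 x.2 h (Subgroup.mem_zpowers h)]
    obtain ⟨l', hl', hlm⟩ := exists_intertwine hF hC (hcjG x) hcomm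
    obtain ⟨hxm, hxa⟩ := hlm hreg hreg
    refine hF.mem_diagonal_iff.1 (hF.mem_diagonal_of_permAct hxm ?_)
    rw [← stab_trivial hF hA' hr.pos k₀ (fun s hs => ?_) l' fun s => ?_]
    · exact hxa
    · exact hreg _ s.isLt (by
        rw [← ofMul_eq_zero, ← torHom_coV hF c0 s.isLt, hlin, hdvd]; exact hs)
    · rw [← hdvd, sub_zsmul, ← hlin, ← hlin, torHom_coV hF c0 (sW D l' s).isLt,
        torHom_coV hF c0 s.isLt, ← hl' s, add_neg_cancel]
  choose cc' hcc using hdiag
  have hrel : ∀ x : C, ∀ v, torHom D (cc' x) (A *ᵥ v) = (q : ℤ) • torHom D (cc' x) v := fun x =>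
    homeq (cc' x) fun s => by
      rw [← hσu, ← chiT_map σ]
      exact permAct_intertwine hF hMact (hkeyc _ x (hcc x)).symm s
  -- the character
  set N : ℤ := (cyclotomic d ℤ).eval (q : ℤ) with hN
  have hNpos : 0 < N := cyclotomic_pos (by have := S.three; omega) _
  let Φ : C →* Kˣ :=
    { toFun := fun x => chiT D (cc' x) α.val
      map_one' := by
        have e : hT D (cc' 1) = hT D (fun _ => (1 : Kˣ)) := by
          rw [← hcc 1, hF.hT_one]; exact map_one cj
        rw [chiT_eq_of_hT e α.isLt, chiT_one]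
      map_mul' := fun x y => by
        have e : hT D (cc' (x * y)) = hT D (fun i => cc' x i * cc' y i) := by
          rw [hF.hT_mul, ← hcc, ← hcc, ← hcc, Subgroup.coe_mul, map_mul]
        rw [chiT_eq_of_hT e α.isLt, chiT_mul] }
  have hΦinj : Function.Injective Φ := by
    rw [injective_iff_map_eq_one]
    intro x hx
    refine Subtype.ext (hcj ?_)
    rw [hcc x, Subgroup.coe_one, map_one, ← hF.hT_one]
    refine hT_ext fun s hs => ?_
    rw [chiT_one]
    have h0 : torHom D (cc' x) (coV D co α.val) = 0 := by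
      rw [torHom_coV hF _ α.isLt]; exact hx ▸ rfl
    have h1 := hom_eq_zero_of_orbit A _ (torHom D (cc' x)) (hrel x) h0 (coV D co s)
    rw [torHom_coV hF _ hs] at h1
    rcases Int.isUnit_iff.1 hα with e | e <;> rw [e] at h1 <;> simpa using h1
  have hΦN : ∀ x, Φ x ^ N.natAbs = 1 := by
    intro x
    have h1 : torHom D (cc' x) (aeval A (cyclotomic d ℤ) *ᵥ coV D co α.val) =
        N • torHom D (cc' x) (coV D co α.val) := hom_aeval A _ _ (hrel x) _ _
    rw [hΦ, Matrix.zero_mulVec, map_zero, torHom_coV hF _ α.isLt,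
      ← Int.natAbs_of_nonneg hNpos.le, natCast_zsmul, ← ofMul_pow, eq_comm, ofMul_eq_zero] at h1
    exact h1
  obtain ⟨a, ha⟩ : ∃ a : Kˣ, orderOf a = N.natAbs := by
    haveI := Fintype.ofFinite K
    obtain ⟨g, hg⟩ := IsCyclic.exists_generator (α := Kˣ)
    have hgo : orderOf g = q ^ d - 1 := by
      rw [orderOf_eq_card_of_forall_mem_zpowers hg, Nat.card_units, hK]
    have hNd : N.natAbs ∣ q ^ d - 1 := by
      rw [← Int.natCast_dvd_natCast, Int.natAbs_of_nonneg hNpos.le,
        Nat.cast_sub (Nat.one_le_pow _ _ (by omega))]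
      simpa using Polynomial.eval_dvd (x := (q : ℤ)) (cyclotomic.dvd_X_pow_sub_one d ℤ)
    have hpos : 0 < q ^ d - 1 := by
      have := Nat.one_lt_pow (by have := S.three; omega : d ≠ 0) (by omega : 1 < q)
      omega
    obtain ⟨e, he⟩ := hNd
    have he0 : e ≠ 0 := fun h0 => by rw [h0, mul_zero] at he; omega
    refine ⟨g ^ e, ?_⟩
    rw [orderOf_pow' g he0, hgo, he, Nat.gcd_mul_left_left,
      Nat.mul_div_cancel _ (Nat.pos_of_ne_zero he0)]
  -- the torus element
  obtain ⟨L, hLα, hLA⟩ := exists_hom A (cyclotomic.monic d ℤ)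
    ((natDegree_cyclotomic d ℤ).trans S.totient)
    (S.totient ▸ Nat.totient_pos.2 (by have := S.three; omega)) hΦ hα (q : ℤ)
    (a := Additive.ofMul a) (by
      show N • Additive.ofMul a = 0
      rw [← Int.natAbs_of_nonneg hNpos.le, natCast_zsmul, ← ofMul_pow, ← ha, pow_orderOf_eq_one,
        ofMul_one])
  obtain ⟨c, hc⟩ := exists_torus S.inv L
  have hcM : hT D c * M = M * hT D (fun i => Units.map σ.toMonoidHom (c i)) := by
    refine (monomial_conj_hT hF hMmono hMact fun s => ?_).symm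
    rw [chiT_map, hσu]
    refine Additive.ofMul.injective ?_
    rw [ofMul_pow, ← torHom_coV hF c s.isLt, ← torHom_coV hF c (sW D l s).isLt, coV_sW hF, hc, hLA,
      natCast_zsmul]
  set g : GL D.Idx K := P⁻¹ * hT D c * P with hg
  have hgfix : FixedPoints.gMap D σ g = g := by
    show extG D σ g = g
    rw [hg, map_mul, map_mul, map_inv, extG_hT]
    have e : hT D (fun i => Units.map σ.toMonoidHom (c i)) = M⁻¹ * (hT D c * M) := by
      rw [hcM, inv_mul_cancel_left]
    rw [e, hM]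
    group
  have hgG : g ∈ D.group K := Subgroup.mul_mem _ (Subgroup.mul_mem _ (Subgroup.inv_mem _ hP)
    (hF.diagonal_le_group (hF.mem_diagonal_iff.2 ⟨c, rfl⟩))) hP
  obtain ⟨e, he, h', hh', hh'fix, hge⟩ := FixedPoints.fixed_decomp hF hC σ hgG hgfix
  have hfixF : ∀ t : K, σ t = t → ∃ u, ι u = t := fun t ht => by
    refine G2Singer.exists_fixed_preimage ι ?_
    rw [← hq, ← hσ, ht]
  have heF : e ∈ (D.group F).map (extG D ι) := by
    refine (Subgroup.closure_le _).2 ?_ he
    rintro x ⟨s, t, hs, ht, rfl⟩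
    obtain ⟨u, rfl⟩ := hfixF t ht
    refine ⟨xU D s u, ?_, extG_xU ι hF hs u⟩
    rw [hF.group_eq]
    exact xU_mem_rootClosure hs trivial u
  have hh'F : h' ∈ (D.group F).map (extG D ι) := by
    obtain ⟨c1, rfl⟩ := hF.mem_diagonal_iff.1 hh'
    change extG D σ (hT D c1) = hT D c1 at hh'fix
    rw [extG_hT] at hh'fix
    have hex : ∀ s < D.nroots, ∃ u : Fˣ, Units.map ι.toMonoidHom u = chiT D c1 s := by
      intro s hs
      have h1 := chiT_eq_of_hT hh'fix hs
      rw [chiT_map] at h1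
      obtain ⟨u, hu⟩ := hfixF (chiT D c1 s : K) (congrArg Units.val h1)
      have hu0 : u ≠ 0 := fun h0 => (chiT D c1 s).ne_zero (by rw [← hu, h0, map_zero])
      exact ⟨Units.mk0 u hu0, Units.ext hu⟩
    choose u hu using hex
    let E : Fin D.rank → Additive Fˣ := fun i =>
      Additive.ofMul (u (D.simple i.val) (hF.simple_lt' i.isLt))
    let LF : (Fin D.rank → ℤ) →+ Additive Fˣ :=
      { toFun := fun v => ∑ i, v i • E i
        map_zero' := by simp
        map_add' := fun v w => by simp only [Pi.add_apply, add_zsmul, Finset.sum_add_distrib] }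
    obtain ⟨cF, hcF⟩ := exists_torus S.inv LF
    refine ⟨hT D cF, hF.diagonal_le_group (hF.mem_diagonal_iff.2 ⟨cF, rfl⟩), ?_⟩
    rw [extG_hT]
    refine hT_ext_hom hF (AddMonoidHom.ext fun w => ?_)
    show ∑ i, w i • Additive.ofMul (chiT D _ (D.simple i.val)) =
      ∑ i, w i • Additive.ofMul (chiT D c1 (D.simple i.val))
    refine Finset.sum_congr rfl fun i _ => ?_
    have h1 := DFunLike.congr_fun hcF (coV D co (D.simple i.val))
    rw [torHom_coV hF cF (hF.simple_lt' i.isLt)] at h1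
    have h2 : LF (coV D co (D.simple i.val)) = E i := by
      show ∑ j, coV D co (D.simple i.val) j • E j = E i
      rw [coV_simple hF, Finset.sum_eq_single i (fun j _ hj => by simp [hj]) (by simp)]
      simp
    rw [h2] at h1
    rw [chiT_map, Additive.ofMul.injective h1, hu]
  obtain ⟨x, hxG, hx⟩ : g ∈ (D.group F).map (extG D ι) := hge ▸ Subgroup.mul_mem _ heF hh'F
  have hcjx : cj ⟨x, hxG⟩ = hT D c := by
    show P * extG D ι x * P⁻¹ = hT D c
    rw [hx, hg]
    group
  have hxC : (⟨x, hxG⟩ : ↥(D.group F)) ∈ C := by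
    rw [hCdef, Subgroup.mem_centralizer_iff]
    intro y hy
    obtain ⟨j, rfl⟩ := Subgroup.mem_zpowers_iff.1 hy
    refine (Commute.zpow_left ?_ j).eq
    refine hcj ?_
    rw [map_mul, map_mul, hcjx, hc0', hT, hT]
    exact (dU_commute _ _).eq
  have hΦx : Φ ⟨_, hxC⟩ = a := by
    show chiT D (cc' ⟨_, hxC⟩) α.val = a
    rw [chiT_eq_of_hT ((hcc ⟨_, hxC⟩).symm.trans hcjx) α.isLt]
    refine Additive.ofMul.injective ?_
    rw [← torHom_coV hF c α.isLt, hc, hLα]
  set xC : C := ⟨_, hxC⟩ with hxCdef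
  have hxo : orderOf xC = N.natAbs := by rw [← orderOf_injective Φ hΦinj, hΦx, ha]
  haveI : NeZero N.natAbs := ⟨by omega⟩
  have hCc : Nat.card C ≤ N.natAbs := by
    let Ψ : C → rootsOfUnity N.natAbs K := fun x => ⟨Φ x, (mem_rootsOfUnity _ _).2 (hΦN x)⟩
    exact (Nat.card_le_card_of_injective Ψ fun a b e => hΦinj (congrArg Subtype.val e)).trans
      (card_rootsOfUnity ..)
  have htop : Subgroup.zpowers xC = ⊤ :=
    Subgroup.eq_top_of_le_card _ (by rw [Nat.card_zpowers, hxo]; exact hCc)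
  haveI hcyc : IsCyclic C :=
    ⟨xC, fun y => by
      obtain ⟨j, hj⟩ := Subgroup.mem_zpowers_iff.1 (htop ▸ Subgroup.mem_top y)
      exact ⟨j, hj⟩⟩
  refine ⟨hcyc, ?_⟩
  rw [← Subgroup.card_top, ← htop, Nat.card_zpowers, hxo, Int.natAbs_of_nonneg hNpos.le]

/-- A self-centralising cyclic torus of order the `d`-th cyclotomic value, from a primitive
prime. -/
theorem exists_cyclic_of_primitive (hF : Facts D co) {d : ℕ} {degs : List ℕ}
    {Ci B : Matrix (Fin D.rank) (Fin D.rank) ℤ} (S : SingerData D co d degs Ci B)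
    {B' Bi : Matrix (Fin D.rank) (Fin D.rank) ℤ} {cc : ℤ} {θ : ℕ}
    (hA' : AlcoveData D co B' Bi cc θ) {F : Type*} [Field F] [Finite F]
    {r : ℕ} (hr : r.Prime) (hrd : r ∣ Nat.card F ^ d - 1)
    (ho : orderOf (Nat.card F : ZMod r) = d) (hdr : d ∣ r - 1)
    (hGF : Nat.card ↥(D.group F) =
      Nat.card F ^ (D.nroots / 2) * (degs.map fun k => Nat.card F ^ k - 1).prod) :
    ∃ H : Subgroup ↥(D.group F), IsCyclic ↥H ∧
      (Nat.card ↥H : ℤ) = (cyclotomic d ℤ).eval (Nat.card F : ℤ) ∧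
      Subgroup.centralizer (H : Set ↥(D.group F)) = H := by
  haveI : Fact r.Prime := ⟨hr⟩
  have hrG : r ∣ Nat.card ↥(D.group F) := by
    rw [hGF]
    exact (hrd.trans (List.dvd_prod (List.mem_map.2 ⟨d, S.mem, rfl⟩))).mul_left _
  haveI : Finite ↥(D.group F) := Nat.finite_of_card_ne_zero (by
    rw [hGF]
    have hq2 : 2 ≤ Nat.card F := Finite.one_lt_card
    refine mul_ne_zero (pow_ne_zero _ (by omega)) (List.prod_ne_zero fun h0 => ?_)
    obtain ⟨k, hk, hk0⟩ := List.mem_map.1 h0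
    rcases Nat.eq_zero_or_pos k with rfl | hk'
    · exact (S.small r hr hdr).2 0 hk (dvd_zero r)
    · have := Nat.one_lt_pow hk'.ne' (by omega : 1 < Nat.card F)
      omega)
  obtain ⟨h, hh⟩ := exists_prime_orderOf_dvd_card' r hrG
  obtain ⟨hcyc, hcard⟩ := centralizer_of_primitive hF S hA' hr hrd ho hdr hGF h hh
  set C := Subgroup.centralizer ((Subgroup.zpowers h : Subgroup ↥(D.group F)) : Set ↥(D.group F))
    with hCdef
  refine ⟨C, hcyc, hcard, le_antisymm (fun y hy => ?_) fun y hy => ?_⟩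
  · rw [hCdef, Subgroup.mem_centralizer_iff]
    intro z hz
    refine Subgroup.mem_centralizer_iff.1 hy z ?_
    show z ∈ C
    rw [hCdef, Subgroup.mem_centralizer_iff]
    intro w hw
    obtain ⟨i, rfl⟩ := Subgroup.mem_zpowers_iff.1 hw
    obtain ⟨j, rfl⟩ := Subgroup.mem_zpowers_iff.1 hz
    exact ((Commute.refl h).zpow_zpow i j).eq
  · refine Subgroup.mem_centralizer_iff.2 fun z hz => ?_
    exact congrArg Subtype.val (IsCyclic.isMulCommutative.is_comm.comm (⟨z, hz⟩ : C) ⟨y, hy⟩)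

/-- A self-centralising cyclic torus of order the `d`-th cyclotomic value. -/
theorem exists_cyclic (hF : Facts D co) {d : ℕ} {degs : List ℕ}
    {Ci B : Matrix (Fin D.rank) (Fin D.rank) ℤ} (S : SingerData D co d degs Ci B)
    {B' Bi : Matrix (Fin D.rank) (Fin D.rank) ℤ} {cc : ℤ} {θ : ℕ}
    (hA' : AlcoveData D co B' Bi cc θ) {F : Type*} [Field F] [Finite F]
    (hexc : (d, Nat.card F) ∉ CfsgLib.Recognition.Zsigmondy.exceptions)
    (hGF : Nat.card ↥(D.group F) =
      Nat.card F ^ (D.nroots / 2) * (degs.map fun k => Nat.card F ^ k - 1).prod) :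
    ∃ H : Subgroup ↥(D.group F), IsCyclic ↥H ∧
      (Nat.card ↥H : ℤ) = (cyclotomic d ℤ).eval (Nat.card F : ℤ) ∧
      Subgroup.centralizer (H : Set ↥(D.group F)) = H := by
  obtain ⟨r, hr, hrd, ho, hdr⟩ := exists_primitive S.three Finite.one_lt_card hexc
  exact exists_cyclic_of_primitive hF S hA' hr hrd ho hdr hGF

end CfsgLib.Known.ChevSinger
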